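import Cfsg.Agent.H84.TwoComp.Complement

/-!
# Counting invariant linear characters of a normal subgroup of the derived group
-/

set_option autoImplicit false
set_option linter.style.haveILetI false

namespace Cfsg.Agent.H84.TwoComp

open Cfsg Cfsg.Agent

universe u

variable {H : Type u} [Group H] [Finite H] (d : Data H) (S : Split d)

theorem pr_eq_of_mem {x y : H} (h : x⁻¹ * y ∈ commutator H) : S.pr x = S.pr y := by
  have h1 := (S.hker _).2 h
  rwa [map_mul, map_inv, inv_mul_eq_one] at h1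

theorem inv_pr_mul_mem (x : H) : ((S.pr x : S.B) : H)⁻¹ * x ∈ commutator H := by
  rw [← S.hker, map_mul, map_inv, S.hpr, inv_mul_cancel]

/-- The operator on the complement. -/
def rho : S.B →* S.B := S.pr.comp (d.σ.toMonoidHom.comp S.B.subtype)

theorem rho_apply (b : S.B) : rho d S b = S.pr (d.σ b) := rfl

theorem rho_iterate (n : ℕ) (b : S.B) : (rho d S)^[n] b = S.pr ((⇑d.σ)^[n] b) := by
  induction n with
  | zero => exact (S.hpr b).symm
  | succ n ih =>
    rw [Function.iterate_succ_apply', ih, Function.iterate_succ_apply', rho_apply]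
    refine pr_eq_of_mem d S ?_
    rw [← map_inv, ← map_mul]
    exact mem_commutator_apply d.σ (inv_pr_mul_mem d S _)

theorem rho_period (b : S.B) : (rho d S)^[d.p ^ d.s] b = b := by
  rw [rho_iterate, d.hσ, S.hpr]

theorem moved_of_rho {b : S.B} (h : rho d S b ≠ b) : (b : H)⁻¹ * d.σ b ∉ commutator H := fun hm =>
  h (by rw [rho_apply, ← pr_eq_of_mem d S hm, S.hpr])

section

variable (L : Subgroup H) [L.Normal]

/-- The linear characters of `L` invariant under the derived group. -/
def Inv : Subgroup (L →* ℂˣ) where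
  carrier := {μ | ∀ m ∈ commutator H, ∀ l : L, μ (MulAut.conjNormal m l) = μ l}
  one_mem' := fun _ _ _ => rfl
  mul_mem' := fun {a b} ha hb m hm l => by
    rw [MonoidHom.mul_apply, MonoidHom.mul_apply, ha m hm, hb m hm]
  inv_mem' := fun {a} ha m hm l => by rw [MonoidHom.inv_apply, MonoidHom.inv_apply, ha m hm]

/-- The action of the complement. -/
def act (b : S.B) (μ : L →* ℂˣ) : L →* ℂˣ :=
  μ.comp (MulAut.conjNormal ((b : H)⁻¹)).toMonoidHom

theorem act_apply (b : S.B) (μ : L →* ℂˣ) (l : L) :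
    act d S L b μ l = μ (MulAut.conjNormal ((b : H)⁻¹) l) := rfl

theorem act_mul_hom (b : S.B) (μ ν : L →* ℂˣ) :
    act d S L b (μ * ν) = act d S L b μ * act d S L b ν := rfl

theorem act_one_hom (b : S.B) : act d S L b 1 = 1 := rfl

theorem act_inv_hom (b : S.B) (μ : L →* ℂˣ) : act d S L b μ⁻¹ = (act d S L b μ)⁻¹ := rfl

theorem act_one (μ : L →* ℂˣ) : act d S L 1 μ = μ := MonoidHom.ext fun l => by
  rw [act_apply]
  congr 1
  exact Subtype.ext (by simp)

theorem act_mul (b c : S.B) (μ : L →* ℂˣ) : act d S L (b * c) μ = act d S L b (act d S L c μ) :=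
  MonoidHom.ext fun l => by
    rw [act_apply, act_apply, act_apply]
    congr 1
    exact Subtype.ext (by simp [mul_assoc])

theorem act_mem (b : S.B) {μ : L →* ℂˣ} (hμ : μ ∈ Inv L) : act d S L b μ ∈ Inv L := fun m hm l => by
  rw [act_apply, act_apply]
  have h := hμ ((b : H)⁻¹ * m * b)
    (by simpa using (inferInstance : (commutator H).Normal).conj_mem m hm (b : H)⁻¹)
    (MulAut.conjNormal ((b : H)⁻¹) l)
  rw [← h]
  congr 1
  exact Subtype.ext (by simp [mul_assoc])

theorem eq_one_of_fixed_moved (hLM : L ≤ commutator H) {b : S.B} (hb : rho d S b ≠ b)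
    {μ : L →* ℂˣ} (hμ : act d S L b μ = μ) : μ = 1 := by
  let φ : L → L := fun l => l⁻¹ * MulAut.conjNormal ((b : H)⁻¹) l
  have hinj : Function.Injective φ := by
    intro l1 l2 h
    have h1 : MulAut.conjNormal ((b : H)⁻¹) (l2 * l1⁻¹) = l2 * l1⁻¹ := by
      have e : MulAut.conjNormal ((b : H)⁻¹) l2 = l2 * l1⁻¹ * MulAut.conjNormal ((b : H)⁻¹) l1 := by
        have h2 : l1⁻¹ * MulAut.conjNormal ((b : H)⁻¹) l1 =
            l2⁻¹ * MulAut.conjNormal ((b : H)⁻¹) l2 := h
        rw [mul_assoc, h2, mul_inv_cancel_left]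
      rw [map_mul, map_inv (MulAut.conjNormal ((b : H)⁻¹)) l1, e, mul_inv_cancel_right]
    have h2 := congrArg Subtype.val h1
    rw [MulAut.conjNormal_apply, inv_inv] at h2
    have h3 := S.hmoved b b.2 (moved_of_rho d S hb) ((l2 * l1⁻¹ : L) : H) (hLM (l2 * l1⁻¹).2) (by
      conv_lhs => rw [← h2]
      group)
    exact (mul_inv_eq_one.1 (Subtype.ext h3 : l2 * l1⁻¹ = 1)).symm
  refine MonoidHom.ext fun l => ?_
  obtain ⟨l', hl'⟩ := Finite.injective_iff_surjective.1 hinj l
  rw [← hl', map_mul, map_inv, ← act_apply, hμ, inv_mul_cancel, MonoidHom.one_apply]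

variable {L}

/-- The action of the operator. -/
def opHom (hσL : ∀ l ∈ L, d.σ.symm l ∈ L) : L →* L where
  toFun l := ⟨d.σ.symm l, hσL l l.2⟩
  map_one' := Subtype.ext (map_one _)
  map_mul' a b := Subtype.ext (map_mul d.σ.symm (a : H) b)

theorem opHom_mem (hσL : ∀ l ∈ L, d.σ.symm l ∈ L) {μ : L →* ℂˣ} (hμ : μ ∈ Inv L) :
    μ.comp (opHom d hσL) ∈ Inv L := fun m hm l => by
  rw [MonoidHom.comp_apply, MonoidHom.comp_apply]
  have h := hμ (d.σ.symm m) (mem_commutator_apply d.σ.symm hm) (opHom d hσL l)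
  rw [← h]
  congr 1
  exact Subtype.ext (by simp [opHom])

theorem op_act (hσL : ∀ l ∈ L, d.σ.symm l ∈ L) (b : S.B) {μ : L →* ℂˣ} (hμ : μ ∈ Inv L) :
    (act d S L b μ).comp (opHom d hσL) = act d S L (rho d S b) (μ.comp (opHom d hσL)) := by
  refine MonoidHom.ext fun l => ?_
  rw [MonoidHom.comp_apply, act_apply, act_apply]
  have h := opHom_mem d hσL hμ (((rho d S b : S.B) : H)⁻¹ * d.σ b)⁻¹
    (inv_mem (inv_pr_mul_mem d S _)) (MulAut.conjNormal (((rho d S b : S.B) : H)⁻¹) l)
  rw [← h, MonoidHom.comp_apply]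
  congr 1
  exact Subtype.ext (by simp [opHom, mul_assoc])

include S in
/-- The operator permutes invariant linear characters inside orbits of the complement. -/
theorem exists_act_eq (hLM : L ≤ commutator H) (hσL : ∀ l ∈ L, d.σ.symm l ∈ L)
    (hσL' : ∀ l ∈ L, d.σ l ∈ L) {μ : L →* ℂˣ} (hμ : μ ∈ Inv L) (hμ1 : μ ≠ 1) :
    ∃ b, μ.comp (opHom d hσL) = act d S L b μ := by
  classical
  cases nonempty_fintype H
  haveI := Fintype.ofFinite L
  have hirr := CharInduce.isIrrCharacter_hom μ
  obtain ⟨χ, hχ⟩ := H84.exists_irr_above (N := L) hirr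
  have hnl : charDegree (χ : H → ℂ) ≠ 1 := by
    intro h
    apply hμ1
    have e : (fun n : L => (χ : H → ℂ) n) = fun _ => 1 := funext fun n => by
      rw [H30.ThreeDegrees.linear_apply_commutator h (hLM n.2), H30.ThreeDegrees.apply_one, h,
        Nat.cast_one]
    rw [e] at hχ
    by_contra hne
    exact hχ (CharBasic.classInner_irr_of_ne CharBasic.isIrrCharacter_one hirr fun h1 =>
      hne (MonoidHom.ext fun l => Units.ext (congrFun h1 l).symm))
  have hinv : ∀ h, (χ : H → ℂ) (d.σ.symm h) = (χ : H → ℂ) h := fun h => by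
    have := congrFun (d.hfix χ hnl) (d.σ.symm h)
    rw [Function.comp_apply, MulEquiv.apply_symm_apply] at this
    exact this.symm
  let e : L ≃* L :=
    { opHom d hσL with
      invFun := fun l => ⟨d.σ l, hσL' l l.2⟩
      left_inv := fun l => Subtype.ext (d.σ.apply_symm_apply (l : H))
      right_inv := fun l => Subtype.ext (d.σ.symm_apply_apply (l : H)) }
  have h2 : classInner (fun n : L => (χ : H → ℂ) n) (fun n : L => (μ (e n) : ℂ)) ≠ 0 := by
    have h3 := CharInduce.classInner_comp_mulEquiv e (fun n : L => (χ : H → ℂ) n)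
      (fun n : L => (μ n : ℂ))
    rw [show (fun n : L => (χ : H → ℂ) n) = fun n : L => (χ : H → ℂ) (e n) from
      funext fun n => (hinv n).symm, h3]
    exact hχ
  obtain ⟨x, hx⟩ := CharInduce.exists_conjFun_eq_of_constituent L χ.2 hirr
    (CharInduce.isIrrCharacter_hom (μ.comp e.toMonoidHom)) hχ h2
  refine ⟨(S.pr x)⁻¹, MonoidHom.ext fun l => Units.ext ?_⟩
  have h4 := congrFun hx l
  rw [act_apply, MonoidHom.comp_apply]
  refine Eq.trans h4 ?_
  rw [CharInduce.conjFun_eq_comp]
  have hm : x * ((S.pr x : S.B) : H)⁻¹ ∈ commutator H := by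
    have := (inferInstance : (commutator H).Normal).conj_mem _ (inv_pr_mul_mem d S x)
      ((S.pr x : S.B) : H)
    simpa [mul_assoc] using this
  have h5 := hμ _ hm (MulAut.conjNormal ((S.pr x : S.B) : H) l)
  refine congrArg Units.val ?_
  rw [InvMemClass.coe_inv, inv_inv, ← h5]
  congr 1
  exact Subtype.ext (by simp [mul_assoc])

/-- The fixed invariant characters. -/
def fixInv (hσL : ∀ l ∈ L, d.σ.symm l ∈ L) : Subgroup (Inv (H := H) L) where
  carrier := {μ | (μ : L →* ℂˣ).comp (opHom d hσL) = μ}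
  one_mem' := rfl
  mul_mem' := fun {a b} ha hb => by
    show (((a * b : Inv (H := H) L)) : L →* ℂˣ).comp _ = _
    rw [Subgroup.coe_mul, MonoidHom.mul_comp, ha, hb]
  inv_mem' := fun {a} ha => by
    show (((a⁻¹ : Inv (H := H) L)) : L →* ℂˣ).comp _ = _
    rw [Subgroup.coe_inv]
    refine MonoidHom.ext fun l => ?_
    rw [MonoidHom.comp_apply, MonoidHom.inv_apply, MonoidHom.inv_apply]
    exact congrArg Inv.inv (DFunLike.congr_fun ha l)

theorem count (hLM : L ≤ commutator H) (hσL : ∀ l ∈ L, d.σ.symm l ∈ L)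
    (hσL' : ∀ l ∈ L, d.σ l ∈ L) (D : Subgroup S.B) (hD : ∀ c ∈ D, rho d S c = c)
    (hfix : ∀ c ∈ D, ∀ μ ∈ Inv L, act d S L c μ = μ) (hpD : ¬ d.p ∣ D.index) :
    (Nat.card (Inv (H := H) L) - 1) * Nat.card {b : S.B // b⁻¹ * rho d S b ∈ D} =
      (Nat.card (fixInv d hσL) - 1) * Nat.card S.B := by
  classical
  letI : CommGroup S.B := { (inferInstance : Group S.B) with mul_comm := S.hB }
  haveI : Finite (L →* ℂˣ) := by
    cases nonempty_fintype H
    haveI := Fintype.ofFinite L
    exact Finite.of_injective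
      (fun l : L →* ℂˣ => (⟨_, CharInduce.isIrrCharacter_hom l⟩ : IrrCharacter L))
      fun a b h => MonoidHom.ext fun c => Units.ext (congrFun (congrArg Subtype.val h) c)
  have hact1 : ∀ (b : S.B) (μ : L →* ℂˣ), act d S L b μ = 1 → μ = 1 := fun b μ h => by
    have h2 := act_mul d S L b⁻¹ b μ
    rwa [inv_mul_cancel, act_one, h, act_one_hom] at h2
  let W := {μ : Inv (H := H) L // μ ≠ 1}
  let act' : S.B → W → W := fun b w => ⟨⟨act d S L b (w.1 : L →* ℂˣ), act_mem d S L b w.1.2⟩,
    fun h => w.2 (Subtype.ext (hact1 b _ (congrArg Subtype.val h)))⟩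
  have hop1 : ∀ μ : L →* ℂˣ, μ.comp (opHom d hσL) = 1 → μ = 1 := fun μ h =>
    MonoidHom.ext fun l => by
      have h2 := DFunLike.congr_fun h ⟨d.σ l, hσL' l l.2⟩
      rw [MonoidHom.comp_apply, MonoidHom.one_apply] at h2
      rw [MonoidHom.one_apply, ← h2]
      congr 1
      exact Subtype.ext (d.σ.symm_apply_apply (l : H)).symm
  let T : W → W := fun w => ⟨⟨(w.1 : L →* ℂˣ).comp (opHom d hσL), opHom_mem d hσL w.1.2⟩,
    fun h => w.2 (Subtype.ext (hop1 _ (congrArg Subtype.val h)))⟩
  have hTval : ∀ (n : ℕ) (w : W) (l : L),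
      ((T^[n] w).1 : L →* ℂˣ) l = (w.1 : L →* ℂˣ) ((⇑(opHom d hσL))^[n] l) := by
    intro n
    induction n with
    | zero => exact fun _ _ => rfl
    | succ n ih =>
      intro w l
      rw [Function.iterate_succ_apply' T, Function.iterate_succ_apply (⇑(opHom d hσL))]
      exact ih w _
  have hopp : ∀ l : L, (⇑(opHom d hσL))^[d.p ^ d.s] l = l := fun l => by
    have hv : ∀ (n : ℕ) (l : L),
        (((⇑(opHom d hσL))^[n] l : L) : H) = (⇑d.σ.symm)^[n] (l : H) := by
      intro n
      induction n with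
      | zero => exact fun _ => rfl
      | succ n ih =>
        intro l
        rw [Function.iterate_succ_apply', Function.iterate_succ_apply', ← ih]
        rfl
    refine Subtype.ext ?_
    rw [hv]
    conv_lhs => rw [← d.hσ (l : H)]
    exact Function.LeftInverse.iterate d.σ.symm_apply_apply _ _
  have h := orbit_count (B := S.B) (W := W) act'
    (fun w => Subtype.ext (Subtype.ext (act_one d S L _)))
    (fun b c w => Subtype.ext (Subtype.ext (act_mul d S L b c _)))
    T (rho d S) d.hp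
    (fun w => Subtype.ext (Subtype.ext (MonoidHom.ext fun l => by rw [hTval, hopp])))
    (rho_period d S)
    (fun b w => Subtype.ext (Subtype.ext (op_act d S hσL b w.1.2)))
    (fun w => by
      obtain ⟨b, hb⟩ := exists_act_eq d S hLM hσL hσL' w.1.2 fun h => w.2 (Subtype.ext h)
      exact ⟨b, Subtype.ext (Subtype.ext hb)⟩)
    D (fun c hc => by rw [hD c hc]; exact hc)
    (fun c hc w => Subtype.ext (Subtype.ext (hfix c hc _ w.1.2))) hpD
    (fun b w hw => by
      by_cases hb : rho d S b = b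
      · rw [hb, inv_mul_cancel]; exact one_mem _
      · exact absurd (Subtype.ext (eq_one_of_fixed_moved d S L hLM hb
          (congrArg (fun v : W => (v.1 : L →* ℂˣ)) hw))) w.2)
  haveI : Fintype (Inv (H := H) L) := Fintype.ofFinite _
  have hW : Nat.card W = Nat.card (Inv (H := H) L) - 1 := by
    rw [Nat.card_eq_fintype_card, Fintype.card_subtype_compl, Fintype.card_subtype_eq,
      Nat.card_eq_fintype_card]
  have hF : Nat.card {w : W // T w = w} = Nat.card (fixInv d hσL) - 1 := by
    have e : Nat.card {μ : fixInv d hσL // μ ≠ 1} = Nat.card (fixInv d hσL) - 1 := by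
      haveI : Fintype (fixInv d hσL) := Fintype.ofFinite _
      rw [Nat.card_eq_fintype_card, Fintype.card_subtype_compl, Fintype.card_subtype_eq,
        Nat.card_eq_fintype_card]
    rw [← e]
    refine Nat.card_congr
      { toFun := fun w => ⟨⟨w.1.1, congrArg (fun v : W => (v.1 : L →* ℂˣ)) w.2⟩,
          fun h => w.1.2 (congrArg Subtype.val h)⟩
        invFun := fun μ => ⟨⟨μ.1.1, fun h => μ.2 (Subtype.ext h)⟩,
          Subtype.ext (Subtype.ext μ.1.2)⟩
        left_inv := fun _ => rfl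
        right_inv := fun _ => rfl }
  rw [← hW, ← hF]
  exact h

end

end Cfsg.Agent.H84.TwoComp
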