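import Cfsg.Prelude.Def_DegreeGraph
import Cfsg.Agent.S0887
import Cfsg.Agent.S4456
import Cfsg.Agent.H84.TwoDegreesBasic
import Cfsg.Agent.H30.ThreeDegrees.Basic
import Cfsg.Agent.H84.BlockSepMain
import Cfsg.Agent.H90.DegreeSplit
import Cfsg.Agent.H85.CliffordExt

/-!
# No degree dividing another: the prime-power alternative
-/

set_option autoImplicit false
set_option linter.style.haveILetI false

namespace Cfsg.Agent.H84.TwoComp

open Cfsg Cfsg.Agent

universe u

/-- No nonlinear degree properly divides another. -/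
def ND (G : Type u) [Group G] : Prop :=
  ∀ a ∈ charDegrees G, ∀ b ∈ charDegrees G, 1 < a → a < b → ¬ a ∣ b

/-- There is at most one nonlinear degree. -/
def OneDegree (G : Type u) [Group G] : Prop :=
  ∀ a ∈ charDegrees G, ∀ b ∈ charDegrees G, 1 < a → 1 < b → a = b

section

variable {G : Type u} [Group G] [Finite G]

theorem ND.eq_of_dvd (h : ND G) {a b : ℕ} (ha : a ∈ charDegrees G) (hb : b ∈ charDegrees G)
    (ha1 : 1 < a) (hd : a ∣ b) : a = b := by
  obtain ⟨χ, hχ⟩ := hb
  have hb0 : 0 < b := hχ ▸ H30.ThreeDegrees.charDegree_pos χ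
  rcases (Nat.le_of_dvd hb0 hd).lt_or_eq with h1 | h1
  · exact absurd hd (h a ha b ⟨χ, hχ⟩ ha1 h1)
  · exact h1

theorem mem_degrees_of_eq {χ : G → ℂ} (hχ : IsIrrCharacter G χ) {n : ℕ} (h : χ 1 = n) :
    n ∈ charDegrees G := ⟨⟨χ, hχ⟩, H84.charDegree_of_eq h⟩

/-- Either the degrees are powers of `q`, or a normal `q`-complement contains the derived
subgroup. -/
theorem qpower_or_commutator {q : ℕ} (hq : q.Prime) (hnd : ND G)
    (hdeg : ∀ χ : IrrCharacter G, charDegree (χ : G → ℂ) ≠ 1 → q ∣ charDegree (χ : G → ℂ)) :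
    OneDegree G ∨ ∃ K : Subgroup G, K.Normal ∧ (Nat.card K).Coprime q ∧
      (∃ k : ℕ, K.index = q ^ k) ∧ commutator G ≤ K := by
  classical
  cases nonempty_fintype G
  obtain ⟨K, hKn, hKq, k, hk⟩ := S4456.result q hq hdeg
  haveI := hKn
  haveI : Fintype K := Fintype.ofFinite K
  by_cases hc : commutator G ≤ K
  · exact Or.inr ⟨K, hKn, hKq, ⟨k, hk⟩, hc⟩
  refine Or.inl ?_
  have hnab : ∃ a b : G ⧸ K, a * b ≠ b * a := by
    by_contra h
    push Not at h
    refine hc ?_
    rw [commutator_def, Subgroup.commutator_le]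
    intro x _ y _
    rw [← QuotientGroup.eq_one_iff]
    have h2 := h (x : G ⧸ K) y
    rw [← QuotientGroup.mk'_apply, map_commutatorElement, commutatorElement_eq_one_iff_mul_comm]
    exact h2
  obtain ⟨β0, hβ0⟩ := H84.exists_nonlinear hnab
  set d0 := charDegree (β0 : G ⧸ K → ℂ) with hd0
  have hd0G : d0 ∈ charDegrees G := ⟨H84.inflateIrr K β0, H84.charDegree_inflateIrr K β0⟩
  obtain ⟨a, -, ha⟩ := (Nat.dvd_prime_pow hq).1
    (hk ▸ K.index_eq_card ▸ H30.ThreeDegrees.charDegree_dvd_card β0 : d0 ∣ q ^ k)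
  have hd1 : 1 < d0 := lt_of_le_of_ne (H30.ThreeDegrees.charDegree_pos β0) (Ne.symm hβ0)
  have hpow : ∀ χ : IrrCharacter G, ∃ i : ℕ, charDegree (χ : G → ℂ) = q ^ i := by
    intro χ
    obtain ⟨θ, hθ⟩ := CharInduce.exists_constituent
      (CharInduce.IsChar.res (CharBasic.IsIrr.isCharacter χ.2) K) (fun e => by
        have := congrFun e 1
        simp only [Pi.zero_apply] at this
        exact CharBasic.IsIrr.one_ne_zero χ.2 this)
    obtain ⟨hmn, hdiv⟩ := S0887.result K _ χ.2 _ θ.2 hθ _ _ (H30.ThreeDegrees.apply_one χ)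
      (H30.ThreeDegrees.apply_one θ)
    set n := charDegree (χ : G → ℂ)
    set m := charDegree (θ : K → ℂ) with hm
    obtain ⟨i, -, hi⟩ := (Nat.dvd_prime_pow hq).1 (hk ▸ hdiv)
    have hn : n = m * q ^ i := by rw [← hi, Nat.mul_div_cancel' hmn]
    by_cases hm1 : m = 1
    · exact ⟨i, by rw [hn, hm1, one_mul]⟩
    exfalso
    have hm0 : 0 < m := H30.ThreeDegrees.charDegree_pos θ
    have hmlt : 1 < m := lt_of_le_of_ne hm0 (Ne.symm hm1)
    set T := CharInduce.inertia K (θ : K → ℂ) with hT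
    have hKT : K ≤ T := CharInduce.le_inertia K (CharBasic.IsIrr.isClassFunction θ.2)
    haveI : Fintype T := Fintype.ofFinite T
    haveI : Fintype (K.subgroupOf T) := Fintype.ofFinite _
    obtain ⟨b, -, hb⟩ := (Nat.dvd_prime_pow hq).1 (hk ▸ Subgroup.index_dvd_of_le hKT)
    let e := Subgroup.subgroupOfEquivOfLe hKT
    let ϑ : K.subgroupOf T → ℂ := fun x => (θ : K → ℂ) (e x)
    have hϑ : IsIrrCharacter (K.subgroupOf T) ϑ :=
      CharInduce.IsIrr.comp θ.2 e.toMonoidHom e.surjective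
    have hϑ1 : ϑ 1 = (m : ℂ) := by
      show (θ : K → ℂ) (e 1) = _
      rw [map_one, H30.ThreeDegrees.apply_one]
    have hϑdeg : charDegree ϑ = m := H84.charDegree_of_eq hϑ1
    have hidx : (K.subgroupOf T).index ∣ q ^ k := hk ▸ Dvd.intro _ (Subgroup.relIndex_mul_index hKT)
    have hcard : Nat.card (K.subgroupOf T) = Nat.card K := Nat.card_congr e.toEquiv
    have hcop : Nat.Coprime (K.subgroupOf T).index (detOrder ϑ * m) := by
      refine Nat.Coprime.coprime_dvd_left hidx (Nat.Coprime.pow_left k ?_)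
      refine Nat.Coprime.mul_right ?_ ?_
      · exact (hKq.coprime_dvd_left (hcard ▸ H84.BlockSep.detOrder_dvd_card hϑ)).symm
      · exact (hKq.coprime_dvd_left (H30.ThreeDegrees.charDegree_dvd_card θ)).symm
    obtain ⟨η, hη, hres⟩ := CharInduce.exists_extension_of_coprime (N := K.subgroupOf T) hϑ
      (fun g x => by
        have := congrFun ((CharInduce.mem_inertia K).1 g.2) (e x)
        exact this) hϑ1 hcop
    have htw : ∀ γ : T → ℂ, IsIrrCharacter T γ → (∀ x ∈ K.subgroupOf T, γ x = γ 1) →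
        ∀ c : ℕ, γ 1 = (c : ℂ) → T.index * (c * m) ∈ charDegrees G := by
      intro γ hγ hγK c hc
      have hirr := (H90.DegreeSplit.twist (K.subgroupOf T) hη (by
        rw [show (fun x : K.subgroupOf T => η x) = ϑ from funext hres]
        exact hϑ)).1 γ hγ hγK
      have hne : classInner (CharInduce.resTo K hKT (γ * η)) (θ : K → ℂ) ≠ 0 := by
        have h1 : CharInduce.resTo K hKT (γ * η) = (c : ℂ) • (θ : K → ℂ) := by
          funext x
          show γ ⟨x, hKT x.2⟩ * η ⟨x, hKT x.2⟩ = (c : ℂ) * (θ : K → ℂ) x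
          rw [hγK ⟨x, hKT x.2⟩ x.2, hc]
          exact congrArg ((c : ℂ) * ·) (hres ⟨⟨x, hKT x.2⟩, x.2⟩)
        rw [h1, CharBasic.classInner_smul_left, CharBasic.classInner_irr_self θ.2, mul_one]
        intro h0
        exact CharBasic.IsIrr.one_ne_zero hγ (hc.trans h0)
      obtain ⟨hind, -, -⟩ := CharInduce.clifford_correspondence K θ.2 hKT hirr hne
      refine mem_degrees_of_eq hind ?_
      rw [CharInduce.indFun_one, Pi.mul_apply, hc,
        show η 1 = (m : ℂ) from (hres 1).trans hϑ1, ← hT]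
      push_cast
      ring
    have hbase : T.index * m ∈ charDegrees G := by
      have h1 := htw (fun _ => 1) CharBasic.isIrrCharacter_one (fun _ _ => rfl) 1 (by simp)
      rwa [one_mul] at h1
    have hbase1 : 1 < T.index * m :=
      lt_of_lt_of_le hmlt (Nat.le_mul_of_pos_left m (Nat.pos_of_ne_zero Subgroup.index_ne_zero_of_finite))
    have hlin : ∀ γ : IrrCharacter (T ⧸ K.subgroupOf T), charDegree (γ : T ⧸ K.subgroupOf T → ℂ) = 1 := by
      intro γ
      have h1 := htw _ (H84.inflateIrr (K.subgroupOf T) γ).2 (fun x hx => by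
        show (γ : T ⧸ K.subgroupOf T → ℂ) (QuotientGroup.mk' _ x) =
          (γ : T ⧸ K.subgroupOf T → ℂ) (QuotientGroup.mk' _ 1)
        rw [map_one, QuotientGroup.mk'_apply, (QuotientGroup.eq_one_iff x).2 hx])
        _ (H30.ThreeDegrees.apply_one _)
      rw [H84.charDegree_inflateIrr] at h1
      have h2 := hnd.eq_of_dvd hbase h1 hbase1 ⟨charDegree (γ : T ⧸ K.subgroupOf T → ℂ), by ring⟩
      have h3 : T.index * m * 1 = T.index * m * charDegree (γ : T ⧸ K.subgroupOf T → ℂ) := by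
        rw [mul_one]; exact h2.trans (by ring)
      exact (Nat.eq_of_mul_eq_mul_left (lt_trans Nat.one_pos hbase1) h3).symm
    have hab := H84.commutative_of_linear hlin
    have hle : d0 ≤ T.index := by
      have h1 := H84.charDegree_le_index (G := G ⧸ K) (T.map (QuotientGroup.mk' K)) (by
        rintro _ ⟨x, hx, rfl⟩ _ ⟨y, hy, rfl⟩
        have h2 := hab ((⟨x, hx⟩ : T) : T ⧸ K.subgroupOf T) ((⟨y, hy⟩ : T) : T ⧸ K.subgroupOf T)
        rw [← QuotientGroup.mk_mul, ← QuotientGroup.mk_mul, QuotientGroup.eq,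
          Subgroup.mem_subgroupOf] at h2
        rw [← map_mul, ← map_mul, QuotientGroup.mk'_apply, QuotientGroup.mk'_apply,
          QuotientGroup.eq]
        simpa using h2) β0
      rwa [Subgroup.index_map_eq T (QuotientGroup.mk'_surjective K)
        (by rw [QuotientGroup.ker_mk']; exact hKT)] at h1
    rw [ha, hb] at hle
    have hab' : a ≤ b := (Nat.pow_le_pow_iff_right hq.one_lt).1 hle
    have hdvd : d0 ∣ T.index * m := by
      rw [ha, hb]
      exact (pow_dvd_pow q hab').mul_right m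
    have he := hnd.eq_of_dvd hd0G hbase hd1 hdvd
    have hlt : d0 < T.index * m := by
      rw [ha, hb]
      exact lt_of_le_of_lt (Nat.pow_le_pow_right hq.pos hab')
        (lt_mul_of_one_lt_right (pow_pos hq.pos b) hmlt)
    exact hlt.ne he
  intro x hx y hy hx1 hy1
  obtain ⟨χ, rfl⟩ := hx
  obtain ⟨χ', rfl⟩ := hy
  obtain ⟨i, hi⟩ := hpow χ
  obtain ⟨j, hj⟩ := hpow χ'
  rcases le_total i j with h | h
  · exact hnd.eq_of_dvd ⟨χ, rfl⟩ ⟨χ', rfl⟩ hx1 (by rw [hi, hj]; exact pow_dvd_pow q h)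
  · exact (hnd.eq_of_dvd ⟨χ', rfl⟩ ⟨χ, rfl⟩ hy1 (by rw [hi, hj]; exact pow_dvd_pow q h)).symm

end

end Cfsg.Agent.H84.TwoComp
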