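import Cfsg.Agent.H84.TwoComp.Basic
import Cfsg.Agent.CharInduce.Twist

/-!
# An automorphism fixing every nonlinear character: moved cosets of the derived group are classes
-/

set_option autoImplicit false
set_option linter.style.haveILetI false

namespace Cfsg.Agent.H84.TwoComp

open Cfsg Cfsg.Agent

universe u

variable {H : Type u} [Group H] [Finite H]

omit [Finite H] in
theorem isIrr_comp_aut (σ : MulAut H) {χ : H → ℂ} [Finite H] (hχ : IsIrrCharacter H χ) :
    IsIrrCharacter H (χ ∘ σ) :=
  CharInduce.IsIrr.comp hχ σ.toMonoidHom σ.surjective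

theorem mem_commutator_apply (σ : MulAut H) {x : H} (hx : x ∈ commutator H) :
    σ x ∈ commutator H := by
  have h : (commutator H).map σ.toMonoidHom = commutator H := by
    rw [commutator_def, Subgroup.map_commutator, Subgroup.map_top_of_surjective _ σ.surjective]
  rw [← h]
  exact ⟨x, hx, rfl⟩

theorem isConj_of_moved (σ : MulAut H)
    (hfix : ∀ χ : IrrCharacter H, charDegree (χ : H → ℂ) ≠ 1 → (χ : H → ℂ) ∘ σ = χ)
    {x y : H} (hx : x⁻¹ * σ x ∉ commutator H) (hy : x⁻¹ * y ∈ commutator H) : IsConj x y := by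
  classical
  cases nonempty_fintype H
  let π : H →* H ⧸ commutator H := QuotientGroup.mk' _
  have hπ : Function.Surjective π := QuotientGroup.mk'_surjective _
  have hπ1 : ∀ a b : H, π a = π b ↔ a⁻¹ * b ∈ commutator H := fun a b => QuotientGroup.eq
  haveI : Fintype (H ⧸ commutator H) := Fintype.ofFinite _
  have hcomm : ∀ a b : H ⧸ commutator H, a * b = b * a := fun a b =>
    mul_comm (G := Abelianization H) a b
  let σ' : H ⧸ commutator H →* H ⧸ commutator H :=
    QuotientGroup.map _ _ σ.toMonoidHom fun a ha => mem_commutator_apply σ ha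
  have hσ' : ∀ a, σ' (π a) = π (σ a) := fun a => rfl
  have hσ'surj : Function.Surjective σ' := fun b => by
    obtain ⟨b', rfl⟩ := hπ b
    exact ⟨π (σ.symm b'), by rw [hσ', MulEquiv.apply_symm_apply]⟩
  have hσA : ∀ χ : IrrCharacter (H ⧸ commutator H),
      IsIrrCharacter (H ⧸ commutator H) ((χ : _ → ℂ) ∘ σ') :=
    fun χ => CharInduce.IsIrr.comp χ.2 σ' hσ'surj
  have hB := CharInduce.card_fixed_irr_eq_card_fixed_classes σ fun χ => isIrr_comp_aut σ χ.2
  have hBA := CharInduce.card_fixed_irr_eq_card_fixed_classes σ' hσA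
  -- moved characters correspond
  let inf : {χ : IrrCharacter (H ⧸ commutator H) // ¬ (χ : _ → ℂ) ∘ σ' = χ} →
      {χ : IrrCharacter H // ¬ (χ : H → ℂ) ∘ σ = χ} := fun χ =>
    ⟨H84.inflateIrr (commutator H) χ.1, fun h => χ.2 (funext fun a => by
      obtain ⟨a', rfl⟩ := hπ a
      exact congrFun h a')⟩
  have hinf : Function.Bijective inf := by
    refine ⟨fun a b h => Subtype.ext (Subtype.ext (funext fun c => ?_)), fun χ => ?_⟩
    · obtain ⟨c', rfl⟩ := hπ c
      exact congrFun (congrArg (fun w : {χ : IrrCharacter H // ¬ (χ : H → ℂ) ∘ σ = χ} =>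
        ((w.1 : IrrCharacter H) : H → ℂ)) h) c'
    · have hlin : charDegree (χ.1 : H → ℂ) = 1 := by
        by_contra h
        exact χ.2 (hfix _ h)
      obtain ⟨ψ, -, hψ, hψi⟩ := CharInduce.IsChar.exists_deflate
        (CharBasic.IsIrr.isCharacter χ.1.2) (commutator H)
        (fun n hn => H30.ThreeDegrees.linear_apply_commutator hlin hn)
      refine ⟨⟨⟨ψ, hψi χ.1.2⟩, fun h => χ.2 (funext fun a => ?_)⟩,
        Subtype.ext (Subtype.ext (funext fun a => (hψ a).symm))⟩
      show (χ.1 : H → ℂ) (σ a) = (χ.1 : H → ℂ) a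
      rw [hψ, hψ]
      exact congrFun h (π a)
  have hcI := Nat.card_congr (Equiv.ofBijective inf hinf)
  -- moved classes of the quotient are moved elements
  let Cl := {C : ConjClasses (H ⧸ commutator H) //
    ¬ ∀ g, ConjClasses.mk g = C → IsConj g (σ' g)}
  have hconjA : ∀ a b : H ⧸ commutator H, IsConj a b → a = b := fun a b h => by
    obtain ⟨c, hc⟩ := isConj_iff.1 h
    rw [← hc, hcomm c a, mul_inv_cancel_right]
  have hcA : Nat.card Cl = Nat.card {a : H ⧸ commutator H // σ' a ≠ a} := by
    symm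
    refine Nat.card_congr (Equiv.subtypeEquiv (Equiv.ofBijective ConjClasses.mk
      ⟨fun a b h => hconjA a b (ConjClasses.mk_eq_mk_iff_isConj.1 h),
        ConjClasses.mk_surjective⟩) fun a => ?_)
    show σ' a ≠ a ↔ ¬ ∀ g, ConjClasses.mk g = ConjClasses.mk a → IsConj g (σ' g)
    constructor
    · exact fun h hall => h (hconjA _ _ (hall a rfl)).symm
    · intro h heq
      apply h
      intro g hg
      rw [hconjA g a (ConjClasses.mk_eq_mk_iff_isConj.1 hg), heq]
  have hcompl : ∀ {α : Type u} [Finite α] (P : α → Prop),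
      Nat.card {a // P a} + Nat.card {a // ¬ P a} = Nat.card α := fun {α} _ P => by
    rw [← Nat.card_sum]
    exact Nat.card_congr (Equiv.sumCompl P)
  have e1 := hcompl (fun χ : IrrCharacter H => (χ : H → ℂ) ∘ σ = χ)
  have e2 := hcompl (fun C : ConjClasses H => ∀ g, ConjClasses.mk g = C → IsConj g (σ g))
  have e3 := hcompl (fun χ : IrrCharacter (H ⧸ commutator H) => (χ : _ → ℂ) ∘ σ' = χ)
  have e4 := hcompl (fun C : ConjClasses (H ⧸ commutator H) =>
    ∀ g, ConjClasses.mk g = C → IsConj g (σ' g))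
  have t1 : Nat.card (IrrCharacter H) = Nat.card (ConjClasses H) :=
    CharBasic.card_irrCharacter
  have t2 : Nat.card (IrrCharacter (H ⧸ commutator H)) =
      Nat.card (ConjClasses (H ⧸ commutator H)) :=
    CharBasic.card_irrCharacter
  have hmoved : Nat.card {C : ConjClasses H // ¬ ∀ g, ConjClasses.mk g = C → IsConj g (σ g)} =
      Nat.card {a : H ⧸ commutator H // σ' a ≠ a} := by
    rw [← hcA]
    simp only [Cl]
    omega
  -- the classes over moved elements
  let img : ConjClasses H → H ⧸ commutator H :=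
    Quotient.lift π fun a b h => by
      obtain ⟨c, hc⟩ := isConj_iff.1 h
      rw [← hc, map_mul, map_mul, hcomm (π c) (π a), map_inv, mul_inv_cancel_right]
  let S := {C : ConjClasses H // σ' (img C) ≠ img C}
  let F : S → {a : H ⧸ commutator H // σ' a ≠ a} := fun C => ⟨img C.1, C.2⟩
  have hFs : Function.Surjective F := fun a => by
    obtain ⟨a', ha'⟩ := hπ a.1
    exact ⟨⟨ConjClasses.mk a', by show σ' (π a') ≠ π a'; rw [ha']; exact a.2⟩, Subtype.ext ha'⟩
  have hSle : Nat.card S ≤
      Nat.card {C : ConjClasses H // ¬ ∀ g, ConjClasses.mk g = C → IsConj g (σ g)} := by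
    refine Nat.card_le_card_of_injective (fun C => ⟨C.1, fun hall => C.2 ?_⟩)
      fun a b h => Subtype.ext (congrArg (fun w : {C : ConjClasses H //
        ¬ ∀ g, ConjClasses.mk g = C → IsConj g (σ g)} => w.1) h)
    obtain ⟨g, hg⟩ := ConjClasses.exists_rep C.1
    obtain ⟨c, hc⟩ := isConj_iff.1 (hall g hg)
    rw [← hg]
    show σ' (π g) = π g
    rw [hσ', ← hc, map_mul, map_mul, hcomm (π c) (π g), map_inv, mul_inv_cancel_right]
  have hbij : Function.Bijective F := (Nat.bijective_iff_surjective_and_card F).2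
    ⟨hFs, le_antisymm (hmoved ▸ hSle) (Nat.card_le_card_of_surjective F hFs)⟩
  have hxm : σ' (π x) ≠ π x := by
    rw [hσ']
    intro h
    exact hx ((hπ1 _ _).1 h.symm)
  have hxy : π x = π y := (hπ1 x y).2 hy
  have hym : σ' (π y) ≠ π y := hxy ▸ hxm
  have h := @hbij.1 ⟨ConjClasses.mk x, hxm⟩ ⟨ConjClasses.mk y, hym⟩ (Subtype.ext hxy)
  exact ConjClasses.mk_eq_mk_iff_isConj.1 (congrArg (fun w : S => w.1) h)

/-- The centralizer of a moved element has the order of the abelianization. -/
theorem card_centralizer_moved (σ : MulAut H)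
    (hfix : ∀ χ : IrrCharacter H, charDegree (χ : H → ℂ) ≠ 1 → (χ : H → ℂ) ∘ σ = χ)
    {x : H} (hx : x⁻¹ * σ x ∉ commutator H) :
    Nat.card (Subgroup.centralizer ({x} : Set H)) = (commutator H).index := by
  set Z := Subgroup.centralizer ({x} : Set H) with hZ
  have hmem : ∀ h : H, x⁻¹ * (h * x * h⁻¹) ∈ commutator H := fun h => by
    have := Subgroup.commutator_mem_commutator (Subgroup.mem_top x⁻¹) (Subgroup.mem_top h)
    rw [← commutator_def, commutatorElement_def, inv_inv] at this
    simpa [mul_assoc] using this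
  let f : H ⧸ Z → commutator H := Quotient.lift (fun h => ⟨x⁻¹ * (h * x * h⁻¹), hmem h⟩)
    fun a b hab => by
      replace hab : a⁻¹ * b ∈ Z := QuotientGroup.leftRel_apply.mp hab
      rw [hZ, Subgroup.mem_centralizer_singleton_iff] at hab
      refine Subtype.ext ?_
      show x⁻¹ * (a * x * a⁻¹) = x⁻¹ * (b * x * b⁻¹)
      congr 1
      calc a * x * a⁻¹ = a * (x * (a⁻¹ * b)) * b⁻¹ := by group
        _ = a * (a⁻¹ * b * x) * b⁻¹ := by rw [hab]
        _ = b * x * b⁻¹ := by group
  have hf : Function.Bijective f := by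
    refine ⟨fun a b h => ?_, fun m => ?_⟩
    · induction a using QuotientGroup.induction_on with
      | H a =>
        induction b using QuotientGroup.induction_on with
        | H b =>
          have h' : a * x * a⁻¹ = b * x * b⁻¹ := mul_left_cancel (congrArg Subtype.val h)
          rw [QuotientGroup.eq, hZ, Subgroup.mem_centralizer_singleton_iff]
          calc a⁻¹ * b * x = a⁻¹ * (b * x * b⁻¹) * b := by group
            _ = a⁻¹ * (a * x * a⁻¹) * b := by rw [h']
            _ = x * (a⁻¹ * b) := by group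
    · have hy : x⁻¹ * (x * (m : H)) ∈ commutator H := by rw [inv_mul_cancel_left]; exact m.2
      obtain ⟨h, hh⟩ := isConj_iff.1 (isConj_of_moved σ hfix hx hy)
      exact ⟨(h : H ⧸ Z), Subtype.ext (by
        show x⁻¹ * (h * x * h⁻¹) = m
        rw [hh, inv_mul_cancel_left])⟩
  have h1 := Nat.card_congr (Equiv.ofBijective f hf)
  rw [← Subgroup.index_eq_card] at h1
  have h2 := Z.card_mul_index
  rw [h1, ← (commutator H).index_mul_card] at h2
  exact Nat.eq_of_mul_eq_mul_right Nat.card_pos h2

end Cfsg.Agent.H84.TwoComp
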