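import Mathlib

/-!
# Counting fixed points of an operator permuting the orbits of an abelian group
-/

set_option autoImplicit false
set_option linter.style.haveILetI false

namespace Cfsg.Agent.H84.TwoComp

theorem pow_mem_of_step {A : Type*} [CommGroup A] (ρ : A →* A) (D : Subgroup A)
    (hD : ∀ d ∈ D, ρ d ∈ D) (e : A) (n : ℕ) (hρ : ρ^[n] e = e)
    (h : (e⁻¹ * ρ e)⁻¹ * ρ (e⁻¹ * ρ e) ∈ D) : (e⁻¹ * ρ e) ^ n ∈ D := by
  set c := e⁻¹ * ρ e with hc
  have hit : ∀ i : ℕ, c⁻¹ * ρ^[i] c ∈ D := by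
    intro i
    induction i with
    | zero => simp
    | succ i ih =>
      rw [Function.iterate_succ_apply']
      have h1 := D.mul_mem h (hD _ ih)
      convert h1 using 1
      rw [map_mul ρ c⁻¹, map_inv]
      group
  have key : ∀ i : ℕ, (e⁻¹ * ρ^[i] e) * (c ^ i)⁻¹ ∈ D := by
    intro i
    induction i with
    | zero => simp
    | succ i ih =>
      have e1 : ρ^[i + 1] e = ρ^[i] e * ρ^[i] c := by
        rw [Function.iterate_succ_apply, ← iterate_map_mul, hc]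
        simp
      rw [e1, pow_succ]
      have h1 := D.mul_mem ih (hit i)
      convert h1 using 1
      rw [mul_inv_rev]
      simp only [mul_assoc, mul_left_comm, mul_comm]
  have h1 := key n
  rw [hρ, inv_mul_cancel, one_mul, inv_mem_iff] at h1
  exact h1

theorem mem_of_pow_mem_coprime {A : Type*} [Group A] (D : Subgroup A) {c : A} {a b : ℕ}
    (hab : a.Coprime b) (ha : c ^ a ∈ D) (hb : c ^ b ∈ D) : c ∈ D := by
  have h := D.mul_mem (D.zpow_mem ha (a.gcdA b)) (D.zpow_mem hb (a.gcdB b))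
  rwa [← zpow_natCast c a, ← zpow_natCast c b, ← zpow_mul, ← zpow_mul, ← zpow_add,
    ← Nat.gcd_eq_gcd_ab, hab.gcd_eq_one, Nat.cast_one, zpow_one] at h

/-- An operator of `p`-power period fixing the elements of order `q` of an abelian group fixes
those of `q`-power order. -/
theorem fixed_of_base {A : Type*} [CommGroup A] (τ : A →* A) {p q s : ℕ} (hpq : p.Coprime q)
    (hτ : ∀ a, τ^[p ^ s] a = a) (hbase : ∀ a, a ^ q = 1 → τ a = a) :
    ∀ (i : ℕ) (a : A), a ^ q ^ i = 1 → τ a = a := by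
  intro i
  induction i with
  | zero => intro a ha; rw [pow_zero, pow_one] at ha; subst ha; exact map_one τ
  | succ i ih =>
    intro a ha
    have h1 : τ (a ^ q) = a ^ q := ih _ (by rw [← pow_mul, ← pow_succ']; exact ha)
    set c := a⁻¹ * τ a with hc
    have hq1 : c ^ q = 1 := by rw [hc, mul_pow, inv_pow, ← map_pow, h1, inv_mul_cancel]
    have hp1 : c ^ p ^ s ∈ (⊥ : Subgroup A) :=
      pow_mem_of_step τ ⊥ (fun d hd => by rw [Subgroup.mem_bot] at hd ⊢; rw [hd, map_one]) a _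
        (hτ a) (by rw [← hc, hbase c hq1, inv_mul_cancel]; exact one_mem _)
    have h2 := mem_of_pow_mem_coprime (⊥ : Subgroup A) (hpq.pow_left s) hp1
      (by rw [hq1]; exact one_mem _)
    rw [Subgroup.mem_bot, hc, inv_mul_eq_one] at h2
    exact h2.symm

/-- The number of points is `|B : Fix|` times the number of fixed points. -/
theorem orbit_count {B W : Type*} [CommGroup B] [Finite B] [Finite W] (act : B → W → W)
    (hact1 : ∀ w, act 1 w = w) (hactm : ∀ b c w, act (b * c) w = act b (act c w))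
    (T : W → W) (ρ : B →* B) {p s : ℕ} (hp : p.Prime) (hTp : ∀ w, T^[p ^ s] w = w)
    (hρp : ∀ b, ρ^[p ^ s] b = b) (hT : ∀ b w, T (act b w) = act (ρ b) (T w))
    (ha : ∀ w, ∃ b, T w = act b w) (D : Subgroup B) (hD : ∀ d ∈ D, ρ d ∈ D)
    (hfix : ∀ d ∈ D, ∀ w, act d w = w) (hpD : ¬ p ∣ D.index)
    (hstab : ∀ b w, act b w = w → b⁻¹ * ρ b ∈ D) :
    Nat.card W * Nat.card {b : B // b⁻¹ * ρ b ∈ D} = Nat.card {w : W // T w = w} * Nat.card B := by
  classical
  haveI := Fact.mk hp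
  letI : MulAction B W :=
    { smul := act
      one_smul := hact1
      mul_smul := hactm }
  have hsmul : ∀ b w, b • w = act b w := fun _ _ => rfl
  have hexists : ∀ w, ∃ w0 : W, T w0 = w0 ∧ ∃ b, w = act b w0 := by
    intro w
    let O : Set W := MulAction.orbit B w
    haveI : Fintype O := Fintype.ofFinite _
    have hTO : ∀ v : O, T v ∈ O := fun v => by
      obtain ⟨b, hb⟩ := v.2
      obtain ⟨c, hc⟩ := ha w
      refine ⟨ρ b * c, ?_⟩
      rw [← hb]
      show act (ρ b * c) w = T (act b w)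
      rw [hT, hc, hactm]
    let f : O → O := fun v => ⟨T v, hTO v⟩
    have hfit : ∀ (n : ℕ) (v : O), ((f^[n] v : O) : W) = T^[n] v := by
      intro n
      induction n with
      | zero => exact fun v => rfl
      | succ n ih =>
        intro v
        rw [Function.iterate_succ_apply', Function.iterate_succ_apply', ← ih]
    have hps : 0 < p ^ s := pow_pos hp.pos s
    have hfl : ∀ v : O, f^[p ^ s - 1] (f v) = v := fun v => Subtype.ext (by
      rw [← Function.iterate_succ_apply f, Nat.succ_eq_add_one, Nat.sub_add_cancel hps, hfit, hTp])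
    have hfr : ∀ v : O, f (f^[p ^ s - 1] v) = v := fun v => Subtype.ext (by
      rw [← Function.iterate_succ_apply' f, Nat.succ_eq_add_one, Nat.sub_add_cancel hps, hfit, hTp])
    let P : Equiv.Perm O := ⟨f, f^[p ^ s - 1], hfl, hfr⟩
    have hP : P ^ p ^ s = 1 := Equiv.ext fun v => Subtype.ext (by
      rw [Equiv.Perm.coe_pow, Equiv.Perm.one_apply]
      exact (hfit _ v).trans (hTp _))
    have hcard : ¬ p ∣ Fintype.card O := by
      rw [← Nat.card_eq_fintype_card,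
        Nat.card_congr (MulAction.orbitEquivQuotientStabilizer B w), ← Subgroup.index_eq_card]
      intro h
      exact hpD (h.trans (Subgroup.index_dvd_of_le fun d hd => hfix d hd w))
    obtain ⟨v, hv⟩ := Equiv.Perm.exists_fixed_point_of_prime hcard hP
    obtain ⟨b, hb⟩ := v.2
    refine ⟨v, congrArg Subtype.val hv, b⁻¹, ?_⟩
    rw [← hb]
    show w = act b⁻¹ (act b w)
    rw [← hactm, inv_mul_cancel, hact1]
  have hkey : ∀ (e : B) (w0 : W), T w0 = w0 → (T (act e w0) = act e w0 ↔ e⁻¹ * ρ e ∈ D) := by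
    intro e w0 hw0
    rw [hT, hw0]
    refine ⟨fun h => ?_, fun h => ?_⟩
    · have hc : act (e⁻¹ * ρ e) w0 = w0 := by rw [hactm, h, ← hactm, inv_mul_cancel, hact1]
      exact mem_of_pow_mem_coprime D (Nat.Coprime.pow_left s (hp.coprime_iff_not_dvd.2 hpD))
        (pow_mem_of_step ρ D hD e _ (hρp e) (hstab _ _ hc)) (D.pow_index_mem _)
    · rw [show ρ e = e * (e⁻¹ * ρ e) by group, hactm, hfix _ h]
  let Φ : {w : W // T w = w} × B → W := fun x => act x.2 x.1
  have hfib : ∀ v : W, Nat.card {x // Φ x = v} = Nat.card {b : B // b⁻¹ * ρ b ∈ D} := by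
    intro v
    obtain ⟨w0, hw0, b0, hb0⟩ := hexists v
    have hrev : ∀ e : B, act (b0 * e⁻¹) (act e w0) = v := fun e => by
      rw [← hactm, inv_mul_cancel_right, hb0]
    refine Nat.card_congr
      { toFun := fun x => ⟨x.1.2⁻¹ * b0, (hkey _ w0 hw0).1 (by
          have h : act (x.1.2⁻¹ * b0) w0 = x.1.1 := by
            have h2 : act x.1.2 x.1.1 = v := x.2
            rw [hactm, ← hb0]
            exact (congrArg (act x.1.2⁻¹) h2).symm.trans (by rw [← hactm, inv_mul_cancel, hact1])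
          rw [h]; exact x.1.1.2)⟩
        invFun := fun e => ⟨(⟨act e.1 w0, (hkey _ w0 hw0).2 e.2⟩, b0 * e.1⁻¹), hrev e.1⟩
        left_inv := fun x => ?_
        right_inv := fun e => Subtype.ext (by simp [mul_assoc]) }
    · have h2 : act x.1.2 x.1.1 = v := x.2
      refine Subtype.ext (Prod.ext (Subtype.ext ?_) ?_)
      · show act (x.1.2⁻¹ * b0) w0 = x.1.1
        rw [hactm, ← hb0]
        exact (congrArg (act x.1.2⁻¹) h2).symm.trans (by rw [← hactm, inv_mul_cancel, hact1])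
      · show b0 * (x.1.2⁻¹ * b0)⁻¹ = x.1.2
        rw [mul_inv_rev, inv_inv, mul_inv_cancel_left]
  haveI : Fintype W := Fintype.ofFinite W
  rw [← Nat.card_prod {w : W // T w = w} B, ← Nat.card_congr (Equiv.sigmaFiberEquiv Φ),
    Nat.card_sigma]
  simp [hfib, Nat.card_eq_fintype_card (α := W)]

/-- Powers of one prime with the same ratio `(ℓ^n - 1) / (ℓ^k - 1) > 1` are equal. -/
theorem pow_eq_of_ratio {ℓ n m k j K D : ℕ} (hℓ : ℓ.Prime) (hK : 0 < K) (hKD : K < D)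
    (hn : 1 < ℓ ^ n) (hm : 1 < ℓ ^ m)
    (h1 : (ℓ ^ n - 1) * K = (ℓ ^ k - 1) * D) (h2 : (ℓ ^ m - 1) * K = (ℓ ^ j - 1) * D) :
    ℓ ^ n = ℓ ^ m := by
  have hb : ∀ n k : ℕ, 1 < ℓ ^ n → (ℓ ^ n - 1) * K = (ℓ ^ k - 1) * D → 1 ≤ k ∧ k < n := by
    intro n k hn h
    have hpos : 0 < (ℓ ^ n - 1) * K := Nat.mul_pos (by omega) hK
    refine ⟨Nat.one_le_iff_ne_zero.2 fun hk => ?_, ?_⟩
    · rw [hk, pow_zero, Nat.sub_self, Nat.zero_mul] at h; omega
    · by_contra hle
      push Not at hle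
      have h3 : ℓ ^ n - 1 ≤ ℓ ^ k - 1 := Nat.sub_le_sub_right (Nat.pow_le_pow_right hℓ.pos hle) 1
      have h4 : (ℓ ^ n - 1) * K < (ℓ ^ k - 1) * D :=
        lt_of_le_of_lt (Nat.mul_le_mul_right K h3)
          (Nat.mul_lt_mul_of_pos_left hKD (by omega))
      omega
  obtain ⟨hk1, hkn⟩ := hb n k hn h1
  obtain ⟨hj1, hjm⟩ := hb m j hm h2
  have hcast : ∀ i : ℕ, ((ℓ ^ i - 1 : ℕ) : ℤ) = (ℓ : ℤ) ^ i - 1 := fun i => by
    rw [Nat.cast_sub (Nat.one_le_pow i ℓ hℓ.pos)]; push_cast; ring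
  have z1 := congrArg (Nat.cast : ℕ → ℤ) h1
  have z2 := congrArg (Nat.cast : ℕ → ℤ) h2
  rw [Nat.cast_mul, Nat.cast_mul, hcast, hcast] at z1 z2
  have hD0 : (D : ℤ) ≠ 0 := by exact_mod_cast (by omega : D ≠ 0)
  have hK0 : (K : ℤ) ≠ 0 := by exact_mod_cast hK.ne'
  have hcross : ((ℓ : ℤ) ^ n - 1) * ((ℓ : ℤ) ^ j - 1) =
      ((ℓ : ℤ) ^ m - 1) * ((ℓ : ℤ) ^ k - 1) := by
    refine mul_right_cancel₀ hK0 ?_
    linear_combination ((ℓ : ℤ) ^ j - 1) * z1 - ((ℓ : ℤ) ^ k - 1) * z2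
  -- the smallest power decides
  have haux : ∀ n m k j : ℕ, k < j → k < n →
      ((ℓ : ℤ) ^ n - 1) * ((ℓ : ℤ) ^ j - 1) ≠ ((ℓ : ℤ) ^ m - 1) * ((ℓ : ℤ) ^ k - 1) ∨ m ≤ k := by
    intro n m k j hkj hkn
    by_contra h
    push Not at h
    obtain ⟨he, hkm⟩ := h
    have d : (ℓ : ℤ) ^ (k + 1) ∣ (ℓ : ℤ) ^ k := by
      have e : (ℓ : ℤ) ^ k = (ℓ : ℤ) ^ n * 1 + (ℓ : ℤ) ^ j * 1 - (ℓ : ℤ) ^ n * (ℓ : ℤ) ^ j
          + (ℓ : ℤ) ^ m * ((ℓ : ℤ) ^ k - 1) := by linear_combination he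
      rw [e]
      exact dvd_add (dvd_sub (dvd_add (Dvd.dvd.mul_right (pow_dvd_pow _ hkn) _)
        (Dvd.dvd.mul_right (pow_dvd_pow _ hkj) _)) (Dvd.dvd.mul_right (pow_dvd_pow _ hkn) _))
        (Dvd.dvd.mul_right (pow_dvd_pow _ hkm) _)
    have d' : ℓ ^ (k + 1) ∣ ℓ ^ k := by exact_mod_cast d
    have := (Nat.pow_dvd_pow_iff_le_right hℓ.one_lt).1 d'
    omega
  have hkj : k = j := by
    rcases lt_trichotomy k j with h | h | h
    · rcases haux n m k j h hkn with h' | h'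
      · exact absurd hcross h'
      · omega
    · exact h
    · rcases haux m n j k h hjm with h' | h'
      · exact absurd hcross.symm h'
      · omega
  subst hkj
  have h3 : ((ℓ : ℤ) ^ k - 1) ≠ 0 := by
    rw [← hcast]
    have := Nat.one_lt_pow (n := k) (by omega) hℓ.one_lt
    exact_mod_cast (by omega : ℓ ^ k - 1 ≠ 0)
  have h4 : (ℓ : ℤ) ^ n = (ℓ : ℤ) ^ m := by
    have := mul_right_cancel₀ h3 hcross
    linarith
  exact_mod_cast h4

end Cfsg.Agent.H84.TwoComp
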