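import Cfsg.Agent.H84.TwoComp.Classes
import Cfsg.Agent.H84.TwoComp.Count
import Cfsg.Agent.S0033

/-!
# The setting below the Frobenius quotient: an abelian complement of the derived group
-/

set_option autoImplicit false
set_option linter.style.haveILetI false

namespace Cfsg.Agent.H84.TwoComp

open Cfsg Cfsg.Agent
open scoped commutatorElement

universe u

/-- The normal subgroup below a Frobenius quotient, with an operator from outside. -/
structure Data (H : Type u) [Group H] [Finite H] where
  σ : MulAut H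
  p : ℕ
  q : ℕ
  s : ℕ
  k : ℕ
  N : Subgroup H
  hp : p.Prime
  hq : q.Prime
  hpq : p ≠ q
  hσ : ∀ h, (⇑σ)^[p ^ s] h = h
  hfix : ∀ χ : IrrCharacter H, charDegree (χ : H → ℂ) ≠ 1 → (χ : H → ℂ) ∘ σ = χ
  hnd : ND H
  hdeg : ∀ χ : IrrCharacter H, charDegree (χ : H → ℂ) ≠ 1 → q ∣ charDegree (χ : H → ℂ)
  hpdeg : ∀ χ : IrrCharacter H, ¬ p ∣ charDegree (χ : H → ℂ)
  hNc : commutator H ≤ N
  hNidx : N.index = q ^ k
  hNtop : N ≠ ⊤
  hfpf : ∀ h, h⁻¹ * σ h ∈ N → h ∈ N

variable {H : Type u} [Group H] [Finite H]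

theorem Data.exists_element (d : Data H) {K : Subgroup H} [K.Normal]
    (hKq : (Nat.card K).Coprime d.q) {i : ℕ} (hKi : K.index = d.q ^ i)
    (hcK : commutator H ≤ K) :
    ∃ y : H, y ^ d.q = 1 ∧ y⁻¹ * d.σ y ∉ commutator H ∧
      ∀ m ∈ commutator H, y * m = m * y → m = 1 := by
  classical
  haveI := Fact.mk d.hq
  have hpq' : d.p.Coprime d.q := (Nat.coprime_primes d.hp d.hq).2 d.hpq
  -- every `q'`-element lies in `N`, and `q`-power elements mod `K` are classified by `σ`
  have hKN : K ≤ d.N := by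
    intro x hx
    haveI : d.N.Normal := ⟨fun n hn g => by
      rw [show g * n * g⁻¹ = ⁅g, n⁆ * n by rw [commutatorElement_def]; group]
      exact d.N.mul_mem (d.hNc (Subgroup.commutator_mem_commutator (Subgroup.mem_top g)
        (Subgroup.mem_top n))) hn⟩
    refine mem_of_pow_mem_coprime d.N (hKq.pow_right d.k) ?_ (d.hNidx ▸ d.N.pow_index_mem x)
    have : (⟨x, hx⟩ : K) ^ Nat.card K = 1 := pow_card_eq_one'
    rw [show x ^ Nat.card K = 1 from congrArg Subtype.val this]
    exact one_mem _
  have hσK : ∀ x ∈ K, d.σ x ∈ K := fun x hx => by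
    refine mem_of_pow_mem_coprime K (hKq.pow_right i) ?_ (hKi ▸ K.pow_index_mem _)
    have : (⟨x, hx⟩ : K) ^ Nat.card K = 1 := pow_card_eq_one'
    rw [← map_pow, show x ^ Nat.card K = 1 from congrArg Subtype.val this, map_one]
    exact one_mem _
  have hcomm : ∀ a b : H ⧸ K, a * b = b * a := fun a b => by
    induction a using QuotientGroup.induction_on with
    | H a =>
      induction b using QuotientGroup.induction_on with
      | H b =>
        rw [← QuotientGroup.mk_mul, ← QuotientGroup.mk_mul, QuotientGroup.eq]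
        refine hcK ?_
        have := Subgroup.commutator_mem_commutator (Subgroup.mem_top b⁻¹) (Subgroup.mem_top a⁻¹)
        simpa [commutator_def, commutatorElement_def, mul_assoc] using this
  letI : CommGroup (H ⧸ K) := { (inferInstance : Group (H ⧸ K)) with mul_comm := hcomm }
  let τ : H ⧸ K →* H ⧸ K := QuotientGroup.map K K d.σ.toMonoidHom fun x hx => hσK x hx
  have hτmk : ∀ (n : ℕ) (h : H), τ^[n] (h : H ⧸ K) = (((⇑d.σ)^[n] h : H) : H ⧸ K) := by
    intro n h
    induction n with
    | zero => rfl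
    | succ n ih =>
      rw [Function.iterate_succ_apply', ih, Function.iterate_succ_apply']
      rfl
  have hτp : ∀ a, τ^[d.p ^ d.s] a = a := fun a => by
    induction a using QuotientGroup.induction_on with
    | H h => rw [hτmk, d.hσ]
  obtain ⟨z, hz, hzm⟩ : ∃ z : H ⧸ K, z ^ d.q = 1 ∧ τ z ≠ z := by
    by_contra h
    push Not at h
    apply d.hNtop
    rw [Subgroup.eq_top_iff']
    intro x
    have h2 := fixed_of_base τ hpq' hτp h i (x : H ⧸ K) (by
      rw [← hKi, Subgroup.index_eq_card]; exact pow_card_eq_one')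
    refine d.hfpf x (hKN ?_)
    rw [← QuotientGroup.eq]
    exact h2.symm
  obtain ⟨h, rfl⟩ := QuotientGroup.mk_surjective z
  set y := h ^ Nat.card K with hy
  have hhq : h ^ d.q ∈ K := (QuotientGroup.eq_one_iff _).1 hz
  have hy1 : y ^ d.q = 1 := by
    rw [hy, ← pow_mul, mul_comm, pow_mul]
    exact congrArg Subtype.val (pow_card_eq_one' : (⟨_, hhq⟩ : K) ^ Nat.card K = 1)
  have hym : y⁻¹ * d.σ y ∉ K := by
    intro hc
    apply hzm
    have e : (((h : H ⧸ K))⁻¹ * τ (h : H ⧸ K)) ^ Nat.card K = 1 := by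
      rw [mul_pow, inv_pow, ← map_pow]
      show ((y : H ⧸ K))⁻¹ * (d.σ y : H ⧸ K) = 1
      rw [← QuotientGroup.mk_inv, ← QuotientGroup.mk_mul]
      exact (QuotientGroup.eq_one_iff _).2 hc
    have e2 : (((h : H ⧸ K))⁻¹ * τ (h : H ⧸ K)) ^ d.q = 1 := by
      rw [mul_pow, inv_pow, ← map_pow, hz, map_one, inv_one, mul_one]
    have e3 := mem_of_pow_mem_coprime (⊥ : Subgroup (H ⧸ K)) hKq
      (by rw [e]; exact one_mem _) (by rw [e2]; exact one_mem _)
    rw [Subgroup.mem_bot, inv_mul_eq_one] at e3
    exact e3.symm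
  have hym' : y⁻¹ * d.σ y ∉ commutator H := fun h' => hym (hcK h')
  refine ⟨y, hy1, hym', fun m hm hc => ?_⟩
  have hconj : IsConj y (y * m) :=
    isConj_of_moved d.σ d.hfix hym' (by rw [inv_mul_cancel_left]; exact hm)
  obtain ⟨c, hc'⟩ := isConj_iff.1 hconj
  have h1 : m ^ d.q = 1 := by
    have h2 : (c * y * c⁻¹) ^ d.q = 1 := by rw [conj_pow, hy1]; group
    rwa [hc', (show Commute y m from hc).mul_pow, hy1, one_mul] at h2
  have h3 := mem_of_pow_mem_coprime (⊥ : Subgroup H) hKq
    (by rw [show m ^ Nat.card K = 1 from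
      congrArg Subtype.val (pow_card_eq_one' : (⟨m, hcK hm⟩ : K) ^ Nat.card K = 1)]
        exact one_mem _)
    (by rw [h1]; exact one_mem _)
  exact Subgroup.mem_bot.1 h3

/-- An abelian complement of the derived group, which is nilpotent. -/
structure Split (d : Data H) where
  B : Subgroup H
  pr : H →* B
  hpr : ∀ b : B, pr b = b
  hker : ∀ h, pr h = 1 ↔ h ∈ commutator H
  hB : ∀ a b : B, a * b = b * a
  hnil : Group.IsNilpotent (commutator H)
  hmoved : ∀ x ∈ B, x⁻¹ * d.σ x ∉ commutator H → ∀ m ∈ commutator H, x * m = m * x → m = 1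

theorem Data.oneDegree_or_split (d : Data H) : OneDegree H ∨ Nonempty (Split d) := by
  classical
  cases nonempty_fintype H
  rcases qpower_or_commutator d.hq d.hnd d.hdeg with h | ⟨K, hKn, hKq, ⟨i, hi⟩, hcK⟩
  · exact Or.inl h
  haveI := hKn
  obtain ⟨y, hy1, hym, hfy⟩ := d.exists_element hKq hi hcK
  by_cases hbot : commutator H = ⊥
  · refine Or.inl fun a ha _ _ ha1 _ => absurd ha1 ?_
    obtain ⟨χ, rfl⟩ := ha
    rw [H30.ThreeDegrees.charDegree_eq_one_of_commutator χ fun x hx => by
      rw [hbot, Subgroup.mem_bot] at hx; rw [hx]]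
    exact lt_irrefl 1
  refine Or.inr ?_
  set B := Subgroup.centralizer ({y} : Set H) with hB
  have hcard : Nat.card B = (commutator H).index := card_centralizer_moved d.σ d.hfix hym
  let f : B →* H ⧸ commutator H := (QuotientGroup.mk' _).comp B.subtype
  have hfinj : Function.Injective f := by
    rw [injective_iff_map_eq_one]
    intro b hb
    have hm : (b : H) ∈ commutator H := (QuotientGroup.eq_one_iff _).1 hb
    exact Subtype.ext (hfy b hm (Subgroup.mem_centralizer_singleton_iff.1 b.2).symm)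
  have hfbij : Function.Bijective f := (Nat.bijective_iff_injective_and_card f).2
    ⟨hfinj, by rw [hcard, Subgroup.index_eq_card]⟩
  let e := MulEquiv.ofBijective f hfbij
  have hBc : ∀ a b : B, a * b = b * a := fun a b => hfinj (by
    rw [map_mul, map_mul]; exact mul_comm (G := Abelianization H) _ _)
  have hyB : y ∈ B := Subgroup.mem_centralizer_singleton_iff.2 rfl
  refine ⟨⟨B, e.symm.toMonoidHom.comp (QuotientGroup.mk' _), fun b => e.symm_apply_apply b,
    fun h => ?_, hBc, ?_, fun x hx hxm m hm hc => ?_⟩⟩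
  · show e.symm (QuotientGroup.mk' _ h) = 1 ↔ _
    rw [MulEquiv.map_eq_one_iff]
    exact QuotientGroup.eq_one_iff h
  · let φ : commutator H ≃* commutator H := MulAut.conjNormal y
    have hφ : ∀ m : commutator H, φ m = m → m = 1 := fun m hm => by
      refine Subtype.ext (hfy m m.2 ?_)
      have := congrArg Subtype.val hm
      rw [MulAut.conjNormal_apply] at this
      calc y * (m : H) = y * m * y⁻¹ * y := by group
        _ = m * y := by rw [this]
    refine Frobenius.isNilpotent_of_fpf _ d.hq (commutator H) φ rfl hφ fun m => ?_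
    have hit : ∀ (n : ℕ) (m : commutator H), ((φ^[n] m : commutator H) : H) =
        y ^ n * m * (y ^ n)⁻¹ := by
      intro n
      induction n with
      | zero => intro m; simp
      | succ n ih =>
        intro m
        rw [Function.iterate_succ_apply', MulAut.conjNormal_apply, ih, pow_succ']
        group
    exact Subtype.ext (by rw [hit, hy1]; group)
  · have hle : B ≤ Subgroup.centralizer ({x} : Set H) := fun b hb =>
      Subgroup.mem_centralizer_singleton_iff.2 (congrArg Subtype.val (hBc ⟨b, hb⟩ ⟨x, hx⟩))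
    have heq := Subgroup.eq_of_le_of_card_ge hle
      (by rw [hcard, card_centralizer_moved d.σ d.hfix hxm])
    have hmB : m ∈ B := heq ▸ Subgroup.mem_centralizer_singleton_iff.2 hc.symm
    exact hfy m hm (Subgroup.mem_centralizer_singleton_iff.1 hmB).symm

end Cfsg.Agent.H84.TwoComp
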