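import Cfsg.Agent.H84.TwoComp.Twist

/-!
# One nonlinear degree below the Frobenius quotient
-/

set_option autoImplicit false
set_option linter.style.haveILetI false

namespace Cfsg.Agent.H84.TwoComp

open Cfsg Cfsg.Agent
open scoped commutatorElement

universe u

variable {H : Type u} [Group H] [Finite H] (d : Data H) (S : Split d)

include S in
theorem exists_lam_ne_one (hM : commutator H ≠ ⊥) :
    ∃ lam : commutator H →* ℂˣ, lam ≠ 1 := by
  haveI := S.hnil
  have hne : commutator (commutator H) ≠ ⊤ := by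
    intro h
    obtain ⟨n, hn⟩ := (Subgroup.isNilpotent_iff_lowerCentralSeries (commutator H)).1 S.hnil
    apply hM
    have h2 : second H = commutator H := by
      show ⁅commutator H, commutator H⁆ = commutator H
      rw [← Subgroup.map_subtype_commutator (commutator H), h, ← MonoidHom.range_eq_map,
        Subgroup.range_subtype]
    have h3 : ∀ i, (commutator H).lowerCentralSeries i = commutator H := fun i => by
      induction i with
      | zero => rfl
      | succ i ih => rw [Subgroup.lowerCentralSeries_succ, ih]; exact h2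
    rw [← h3 n, hn]
  obtain ⟨v, hv⟩ : ∃ v : commutator H, v ∉ commutator (commutator H) := by
    by_contra h
    push Not at h
    exact hne ((Subgroup.eq_top_iff' _).2 h)
  obtain ⟨lam, -, hlam⟩ := exists_hom_ne_one_off _ le_rfl hv
  exact ⟨lam, fun h => hlam (by rw [h]; rfl)⟩

theorem fix_lt_card (D : Subgroup S.B) (hD : ∀ c ∈ D, rho d S c = c) :
    Nat.card {b : S.B // b⁻¹ * rho d S b ∈ D} < Nat.card S.B := by
  classical
  letI : CommGroup S.B := { (inferInstance : Group S.B) with mul_comm := S.hB }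
  haveI : Fintype S.B := Fintype.ofFinite _
  haveI hNn : d.N.Normal := ⟨fun n hn g => by
    rw [show g * n * g⁻¹ = ⁅g, n⁆ * n by rw [commutatorElement_def]; group]
    exact d.N.mul_mem (d.hNc (Subgroup.commutator_mem_commutator (Subgroup.mem_top g)
      (Subgroup.mem_top n))) hn⟩
  by_contra hlt
  have hall : ∀ b : S.B, b⁻¹ * rho d S b ∈ D := by
    intro b
    by_contra hb
    apply hlt
    rw [Nat.card_eq_fintype_card, Nat.card_eq_fintype_card]
    exact Fintype.card_subtype_lt hb
  apply d.hNtop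
  rw [Subgroup.eq_top_iff']
  intro x
  have hB : ∀ b : S.B, (b : H) ∈ d.N := by
    intro b
    refine d.hfpf b ?_
    have hp := pow_mem_of_step (rho d S) ⊥
      (fun c hc => by rw [Subgroup.mem_bot] at hc ⊢; rw [hc, map_one]) b _ (rho_period d S b)
      (by rw [hD _ (hall b), inv_mul_cancel]; exact one_mem _)
    rw [Subgroup.mem_bot] at hp
    have h1 : ((b⁻¹ * rho d S b : S.B) : H) ∈ d.N := by
      refine mem_of_pow_mem_coprime d.N
        (((Nat.coprime_primes d.hp d.hq).2 d.hpq).pow d.s d.k) ?_ (d.hNidx ▸ d.N.pow_index_mem _)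
      rw [← SubgroupClass.coe_pow, hp]
      exact one_mem _
    have h2 : ((rho d S b : S.B) : H)⁻¹ * d.σ (b : H) ∈ d.N := d.hNc (inv_pr_mul_mem d S _)
    have h3 := d.N.mul_mem h1 h2
    simpa [mul_assoc] using h3
  have h := d.N.mul_mem (d.hNc (mul_inv_pr_mem d S x)) (hB (S.pr x))
  simpa [mul_assoc] using h

/-- The pairing of the derived group attached to an invariant character. -/
theorem pair_mul_right {μ : second H →* ℂˣ} (hμ : μ ∈ Inv (H := H) (second H))
    (v w₁ w₂ : commutator H) :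
    μ ⟨⁅(v : H), ((w₁ * w₂ : commutator H) : H)⁆,
        Subgroup.commutator_mem_commutator v.2 (w₁ * w₂).2⟩ =
      μ ⟨⁅(v : H), (w₁ : H)⁆, Subgroup.commutator_mem_commutator v.2 w₁.2⟩ *
        μ ⟨⁅(v : H), (w₂ : H)⁆, Subgroup.commutator_mem_commutator v.2 w₂.2⟩ := by
  rw [← hμ w₁ w₁.2 ⟨⁅(v : H), (w₂ : H)⁆, Subgroup.commutator_mem_commutator v.2 w₂.2⟩,
    ← map_mul]
  congr 1
  exact Subtype.ext (by simp [commutatorElement_def, mul_assoc])

theorem pair_mul_left {μ : second H →* ℂˣ} (hμ : μ ∈ Inv (H := H) (second H))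
    (v₁ v₂ w : commutator H) :
    μ ⟨⁅((v₁ * v₂ : commutator H) : H), (w : H)⁆,
        Subgroup.commutator_mem_commutator (v₁ * v₂).2 w.2⟩ =
      μ ⟨⁅(v₂ : H), (w : H)⁆, Subgroup.commutator_mem_commutator v₂.2 w.2⟩ *
        μ ⟨⁅(v₁ : H), (w : H)⁆, Subgroup.commutator_mem_commutator v₁.2 w.2⟩ := by
  rw [← hμ v₁ v₁.2 ⟨⁅(v₂ : H), (w : H)⁆, Subgroup.commutator_mem_commutator v₂.2 w.2⟩,
    ← map_mul]
  congr 1
  exact Subtype.ext (by simp [commutatorElement_def, mul_assoc])

/-- The pairing as a homomorphism in the left variable. -/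
def pairHom {μ : second H →* ℂˣ} (hμ : μ ∈ Inv (H := H) (second H)) (w : commutator H) :
    commutator H →* ℂˣ :=
  MonoidHom.mk' (fun v => μ ⟨⁅(v : H), (w : H)⁆, Subgroup.commutator_mem_commutator v.2 w.2⟩)
    fun v₁ v₂ => by rw [pair_mul_left hμ, mul_comm]

theorem second_fixed {μ : second H →* ℂˣ} (hμ : μ ∈ Inv (H := H) (second H)) (c : S.B)
    (hc : ∀ lam : commutator H →* ℂˣ, act d S _ c lam = lam) :
    act d S _ c μ = μ := by
  let E : Subgroup H := ((act d S _ c μ).eqLocus μ).map (second H).subtype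
  have hE : second H ≤ E := by
    refine Subgroup.commutator_le.2 fun a ha b hb => ⟨⟨⁅a, b⁆,
      Subgroup.commutator_mem_commutator ha hb⟩, ?_, rfl⟩
    let a' : commutator H := ⟨a, ha⟩
    let b' : commutator H := ⟨b, hb⟩
    show act d S _ c μ _ = μ _
    rw [act_apply]
    have h1 : pairHom hμ (MulAut.conjNormal ((c : H)⁻¹) b') (MulAut.conjNormal ((c : H)⁻¹) a') =
        pairHom hμ (MulAut.conjNormal ((c : H)⁻¹) b') a' := by
      have h := DFunLike.congr_fun (hc (pairHom hμ (MulAut.conjNormal ((c : H)⁻¹) b'))) a'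
      exact h
    let Ψ : commutator H →* ℂˣ :=
      MonoidHom.mk' (fun w => μ ⟨⁅(a' : H), (w : H)⁆, Subgroup.commutator_mem_commutator a'.2 w.2⟩)
        (pair_mul_right hμ a')
    have h2 : Ψ (MulAut.conjNormal ((c : H)⁻¹) b') = Ψ b' := DFunLike.congr_fun (hc Ψ) b'
    refine Eq.trans ?_ (h1.trans h2)
    show μ _ = μ _
    congr 1
    exact Subtype.ext (by simp [a', b', commutatorElement_def, mul_assoc])
  refine MonoidHom.ext fun l => ?_
  obtain ⟨l', hl', hll⟩ := hE l.2
  rw [← (Subtype.ext hll : l' = l)]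
  exact hl'

include S in
theorem exists_inv_ne_one (hM : second H ≠ ⊥) :
    ∃ μ : second H →* ℂˣ, μ ∈ Inv (H := H) (second H) ∧ μ ≠ 1 := by
  let X : Subgroup (second H) := ⁅second H, commutator H⁆.subgroupOf (second H)
  haveI : X.Normal := Subgroup.Normal.subgroupOf inferInstance _
  have hc : commutator (second H) ≤ X := by
    intro x hx
    have h : (x : H) ∈ (commutator (second H)).map (second H).subtype := ⟨x, hx, rfl⟩
    rw [Subgroup.map_subtype_commutator] at h
    exact Subgroup.commutator_mono le_rfl (second_le H) h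
  obtain ⟨x, hx⟩ : ∃ x, x ∉ X := by
    by_contra h
    push Not at h
    apply hM
    have h2 : ⁅second H, commutator H⁆ = second H := le_antisymm
      (le_trans (Subgroup.commutator_mono (second_le H) le_rfl) le_rfl)
      fun y hy => h ⟨y, hy⟩
    obtain ⟨n, hn⟩ := (Subgroup.isNilpotent_iff_lowerCentralSeries (commutator H)).1 S.hnil
    have h3 : ∀ i, second H ≤ (commutator H).lowerCentralSeries i := fun i => by
      induction i with
      | zero => exact second_le H
      | succ i ih =>
        rw [Subgroup.lowerCentralSeries_succ, ← h2]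
        exact Subgroup.commutator_mono ih le_rfl
    exact le_bot_iff.1 (hn ▸ h3 n)
  obtain ⟨μ, hμ, hμx⟩ := exists_hom_ne_one_off X hc hx
  refine ⟨μ, fun m hm l => ?_, fun h => hμx (by rw [h]; rfl)⟩
  have h : MulAut.conjNormal m l * l⁻¹ ∈ μ.ker := hμ (by
    show ((MulAut.conjNormal m l * l⁻¹ : second H) : H) ∈ ⁅second H, commutator H⁆
    rw [Subgroup.commutator_comm]
    have := Subgroup.commutator_mem_commutator hm l.2
    simpa [commutatorElement_def] using this)
  rw [MonoidHom.mem_ker, map_mul, map_inv, mul_inv_eq_one] at h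
  exact h

/-- Below the Frobenius quotient there is only one nonlinear degree. -/
theorem Data.oneDegree (d : Data H) : OneDegree H := by
  classical
  cases nonempty_fintype H
  rcases d.oneDegree_or_split with h | ⟨⟨S⟩⟩
  · exact h
  by_cases hM : commutator H = ⊥
  · intro a ha _ _ ha1 _
    obtain ⟨χ, rfl⟩ := ha
    rw [H30.ThreeDegrees.charDegree_eq_one_of_commutator χ fun x hx => by
      rw [hM, Subgroup.mem_bot] at hx; rw [hx]] at ha1
    exact absurd ha1 (lt_irrefl 1)
  haveI := Fintype.ofFinite (commutator H)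
  haveI hfinM : Finite (commutator H →* ℂˣ) := Finite.of_injective
    (fun l : commutator H →* ℂˣ => (⟨_, CharInduce.isIrrCharacter_hom l⟩ : IrrCharacter _))
    fun a b h => MonoidHom.ext fun c => Units.ext (congrFun (congrArg Subtype.val h) c)
  haveI := Fintype.ofFinite (second H)
  haveI hfinL : Finite (second H →* ℂˣ) := Finite.of_injective
    (fun l : second H →* ℂˣ => (⟨_, CharInduce.isIrrCharacter_hom l⟩ : IrrCharacter _))
    fun a b h => MonoidHom.ext fun c => Units.ext (congrFun (congrArg Subtype.val h) c)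
  obtain ⟨lam1, hlam1⟩ := exists_lam_ne_one d S hM
  set D := stab d S (commutator H) lam1 with hD
  have hstab : ∀ lam : commutator H →* ℂˣ, lam ≠ 1 → stab d S _ lam = D :=
    fun lam h => stab_eq d S h hlam1
  have hDdeg : D.index ∈ charDegrees H := stab_index_mem d S lam1
  have hD1 : 1 < D.index := lt_of_le_of_ne (Nat.pos_of_ne_zero Subgroup.index_ne_zero_of_finite)
    (Ne.symm fun e => stab_ne_top d S hlam1 (Subgroup.index_eq_one.1 e))
  have hDfix : ∀ c ∈ D, ∀ lam : commutator H →* ℂˣ, act d S _ c lam = lam := fun c hc lam => by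
    by_cases h : lam = 1
    · rw [h, act_one_hom]
    · exact mem_stab d S |>.1 ((hstab lam h).symm ▸ hc : c ∈ stab d S _ lam)
  have hDrho : ∀ c ∈ D, rho d S c = c := fun c hc => by
    by_contra h
    exact hlam1 (eq_one_of_fixed_moved d S _ le_rfl h (hDfix c hc lam1))
  have hpD : ¬ d.p ∣ D.index := by
    obtain ⟨χ, hχ⟩ := hDdeg
    rw [← hχ]
    exact d.hpdeg χ
  by_cases hL : second H = ⊥
  · -- the derived group is abelian
    have hMab : ∀ a b : commutator H, a * b = b * a := fun a b => by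
      have h := Subgroup.commutator_mem_commutator a.2 b.2
      rw [show ⁅commutator H, commutator H⁆ = ⊥ from hL, Subgroup.mem_bot,
        commutatorElement_eq_one_iff_mul_comm] at h
      exact Subtype.ext h
    have hMbot : commutator (commutator H) = ⊥ :=
      Subgroup.map_injective (Subgroup.subtype_injective _)
        (by rw [Subgroup.map_subtype_commutator, Subgroup.map_bot]; exact hL)
    have hcent : ∀ c ∈ D, ∀ m : commutator H, (c : H) * m = m * c := fun c hc m => by
      by_contra hne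
      have hx : MulAut.conjNormal (((c⁻¹ : S.B) : H)⁻¹) m * m⁻¹ ∉ commutator (commutator H) := by
        rw [hMbot, Subgroup.mem_bot, mul_inv_eq_one]
        intro h
        apply hne
        have h2 := congrArg Subtype.val h
        rw [MulAut.conjNormal_apply] at h2
        simp only [InvMemClass.coe_inv, inv_inv] at h2
        calc (c : H) * m = (c : H) * m * (c : H)⁻¹ * c := by group
          _ = _ := by rw [h2]
      obtain ⟨l, -, hl⟩ := exists_hom_ne_one_off _ le_rfl hx
      apply hl
      rw [map_mul, map_inv l m, mul_inv_eq_one]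
      exact DFunLike.congr_fun (hDfix c⁻¹ (inv_mem hc) l) m
    set A := D.comap S.pr
    haveI : D.Normal := ⟨fun x hx g => by rwa [S.hB g x, mul_inv_cancel_right]⟩
    haveI : A.Normal := Subgroup.Normal.comap inferInstance _
    have hA : ∀ a ∈ A, ∀ b ∈ A, a * b = b * a := by
      intro a ha b hb
      obtain ⟨m, hm⟩ : ∃ m : commutator H, a = (m : H) * (S.pr a : S.B) :=
        ⟨⟨_, mul_inv_pr_mem d S a⟩, by simp⟩
      obtain ⟨n, hn⟩ : ∃ n : commutator H, b = (n : H) * (S.pr b : S.B) :=
        ⟨⟨_, mul_inv_pr_mem d S b⟩, by simp⟩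
      have e1 := hcent _ ha n
      have e2 := hcent _ hb m
      have e3 : (m : H) * n = n * m := congrArg Subtype.val (hMab m n)
      have e4 : ((S.pr a : S.B) : H) * (S.pr b : S.B) = (S.pr b : S.B) * (S.pr a : S.B) :=
        congrArg Subtype.val (S.hB _ _)
      rw [hm, hn]
      calc (m : H) * (S.pr a : S.B) * ((n : H) * (S.pr b : S.B))
          = (m : H) * ((S.pr a : S.B) * (n : H)) * (S.pr b : S.B) := by group
        _ = (m : H) * n * ((S.pr a : S.B) * (S.pr b : S.B)) := by rw [e1]; group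
        _ = (n : H) * ((m : H) * (S.pr b : S.B)) * (S.pr a : S.B) := by rw [e3, e4]; group
        _ = _ := by rw [← e2]; group
    have hidx : A.index = D.index := Subgroup.index_comap_of_surjective _ (pr_surjective d S)
    have hdeg : ∀ x ∈ charDegrees H, 1 < x → x = D.index := fun x hx hx1 => by
      refine d.hnd.eq_of_dvd hx hDdeg hx1 ?_
      obtain ⟨χ, rfl⟩ := hx
      rw [← hidx]
      exact H84.charDegree_dvd_index A hA χ
    intro x hx y hy hx1 hy1
    rw [hdeg x hx hx1, hdeg y hy hy1]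
  exfalso
  have hnondeg : ∀ (μ : second H →* ℂˣ) (hμ : μ ∈ Inv (H := H) (second H)), μ ≠ 1 →
      ∀ v : commutator H, (∀ w, pairHom hμ w v = 1) → (v : H) ∈ second H :=
    fun μ hμ hμ1 v hv => mem_second_of_pairing d S hμ hμ1 D hDdeg hD1 hstab v hv
  have hΦ : ∀ v : commutator H, ∃ Φ : Inv (H := H) (second H) →* (commutator H →* ℂˣ),
      ∀ μ w, Φ μ w = pairHom μ.2 w v := fun v =>
    ⟨MonoidHom.mk' (fun μ => MonoidHom.mk' (fun w => pairHom μ.2 w v)
      (fun w₁ w₂ => pair_mul_right μ.2 v w₁ w₂)) (fun μ ν => MonoidHom.ext fun w => rfl),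
      fun μ w => rfl⟩
  haveI : Fintype (Inv (H := H) (second H)) := Fintype.ofFinite _
  obtain ⟨μ1, hμ1, hμ11⟩ := exists_inv_ne_one d S hL
  haveI : Nontrivial (Inv (H := H) (second H)) :=
    ⟨⟨⟨μ1, hμ1⟩, 1, fun h => hμ11 (congrArg Subtype.val h)⟩⟩
  obtain ⟨ℓ, hℓ, hℓd⟩ := Nat.exists_prime_and_dvd
    (Finite.one_lt_card (α := Inv (H := H) (second H))).ne'
  haveI := Fact.mk hℓ
  obtain ⟨μ0, hμ0⟩ := exists_prime_orderOf_dvd_card' ℓ hℓd
  have hμ0' : (μ0 : second H →* ℂˣ) ≠ 1 := fun h => by
    rw [show μ0 = 1 from Subtype.ext h, orderOf_one] at hμ0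
    exact hℓ.ne_one hμ0.symm
  have hexp : ∀ v : commutator H, (v ^ ℓ : commutator H).1 ∈ second H := fun v => by
    refine hnondeg _ μ0.2 hμ0' _ fun w => ?_
    rw [map_pow]
    have h := congrArg (fun z : Inv (H := H) (second H) => pairHom z.2 w v)
      (show μ0 ^ ℓ = 1 by rw [← hμ0]; exact pow_orderOf_eq_one μ0)
    obtain ⟨Φ, hΦ'⟩ := hΦ v
    rw [← hΦ', ← MonoidHom.pow_apply, ← map_pow, show μ0 ^ ℓ = 1 by rw [← hμ0]; exact pow_orderOf_eq_one μ0,
      map_one, MonoidHom.one_apply]
  have hV : IsPGroup ℓ (commutator H →* ℂˣ) := fun lam => ⟨1, MonoidHom.ext fun v => by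
    rw [pow_one, MonoidHom.pow_apply, ← map_pow, MonoidHom.one_apply]
    exact hom_second lam (hexp v)⟩
  obtain ⟨v0, hv0⟩ : ∃ v : commutator H, lam1 v ≠ 1 := by
    by_contra h
    push Not at h
    exact hlam1 (MonoidHom.ext h)
  obtain ⟨Φ, hΦ'⟩ := hΦ v0
  have hv0' : (v0 : H) ∉ second H := fun h => hv0 (hom_second lam1 h)
  have hinj : Function.Injective Φ := by
    rw [injective_iff_map_eq_one]
    intro μ hμ
    by_contra hne
    refine hv0' (hnondeg _ μ.2 (fun h => hne (Subtype.ext h)) v0 fun w => ?_)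
    rw [← hΦ', hμ, MonoidHom.one_apply]
  have hW : IsPGroup ℓ (Inv (H := H) (second H)) := hV.of_injective Φ hinj
  have hlt : Nat.card (Inv (H := H) (second H)) < Nat.card (commutator H →* ℂˣ) := by
    haveI : Fintype (commutator H →* ℂˣ) := Fintype.ofFinite _
    rw [Nat.card_eq_fintype_card, Nat.card_eq_fintype_card]
    refine Fintype.card_lt_of_injective_of_notMem Φ hinj (b := lam1) ?_
    rintro ⟨μ, hμ⟩
    apply hv0
    rw [← hμ, hΦ']
    show μ.1 _ = 1
    rw [← map_one μ.1]
    congr 1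
    exact Subtype.ext (by simp)
  have hInvM : Nat.card (Inv (H := H) (commutator H)) = Nat.card (commutator H →* ℂˣ) := by
    rw [show Inv (H := H) (commutator H) = ⊤ from
      (Subgroup.eq_top_iff' _).2 mem_inv_commutator, Subgroup.card_top]
  have hσM : ∀ l ∈ commutator H, d.σ.symm l ∈ commutator H := fun l hl =>
    mem_commutator_apply d.σ.symm hl
  have hσM' : ∀ l ∈ commutator H, d.σ l ∈ commutator H := fun l hl => mem_commutator_apply d.σ hl
  have hmapL : ∀ τ : MulAut H, ∀ l ∈ second H, τ l ∈ second H := fun τ l hl => by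
    have h : (second H).map τ.toMonoidHom ≤ second H := by
      rw [Subgroup.map_commutator]
      refine Subgroup.commutator_mono ?_ ?_ <;>
      · rintro _ ⟨x, hx, rfl⟩; exact mem_commutator_apply τ hx
    exact h ⟨l, hl, rfl⟩
  have c1 := count d S le_rfl hσM hσM' D hDrho (fun c hc μ _ => hDfix c hc μ) hpD
  have c2 := count d S (second_le H) (hmapL d.σ.symm) (hmapL d.σ) D hDrho
    (fun c hc μ hμ => second_fixed d S hμ c (hDfix c hc)) hpD
  obtain ⟨n, hn⟩ := hV.exists_card_eq
  obtain ⟨m, hm⟩ := hW.exists_card_eq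
  obtain ⟨k, hk⟩ := ((hV.to_subgroup (Inv (H := H) (commutator H))).to_subgroup
    (fixInv d hσM)).exists_card_eq
  obtain ⟨j, hj⟩ := (hW.to_subgroup (fixInv d (hmapL d.σ.symm))).exists_card_eq
  rw [hInvM, hn, hk] at c1
  rw [hm, hj] at c2
  haveI : Nonempty {b : S.B // b⁻¹ * rho d S b ∈ D} :=
    ⟨⟨1, by rw [map_one, inv_one, mul_one]; exact one_mem D⟩⟩
  have hn1 : 1 < ℓ ^ n := by
    rw [← hn]
    haveI : Nontrivial (commutator H →* ℂˣ) := ⟨⟨lam1, 1, hlam1⟩⟩
    exact Finite.one_lt_card
  have hm1 : 1 < ℓ ^ m := by rw [← hm]; exact Finite.one_lt_card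
  have := pow_eq_of_ratio hℓ Nat.card_pos (fix_lt_card d S D hDrho) hn1 hm1 c1 c2
  rw [hn, hm] at hlt
  omega

end Cfsg.Agent.H84.TwoComp
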