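import Cfsg.Agent.H90.DegreeComponents
import Cfsg.Agent.H84.TwoComp.Core

/-!
# Two components and no divisibility among degrees: three degrees
-/

set_option autoImplicit false
set_option linter.style.haveILetI false

namespace Cfsg.Agent.H84.TwoComp

open Cfsg Cfsg.Agent Cfsg.Agent.CharBasic Cfsg.Agent.CharInduce
open Cfsg.Agent.H90 Cfsg.Agent.H90.DegreeComponents

universe u

variable {G : Type u} [Group G] [Fintype G]

theorem components_le_one {r : ℕ} (hr : r.Prime) (h : ∀ s d : ℕ, s.Prime → d ∈ Cfsg.charDegrees G →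
    s ∣ d → ((Cfsg.degreeGraph G).induce (Cfsg.degreePrimes G)).Preconnected ∨
      ∃ (hr' : r ∈ Cfsg.degreePrimes G) (hs : s ∈ Cfsg.degreePrimes G),
        ((Cfsg.degreeGraph G).induce (Cfsg.degreePrimes G)).Reachable ⟨r, hr'⟩ ⟨s, hs⟩) :
    Nat.card ((Cfsg.degreeGraph G).induce (Cfsg.degreePrimes G)).ConnectedComponent ≤ 1 := by
  set H := (Cfsg.degreeGraph G).induce (Cfsg.degreePrimes G)
  by_cases hpre : H.Preconnected
  · haveI : Subsingleton H.ConnectedComponent := ⟨fun a b => by
      induction a using SimpleGraph.ConnectedComponent.ind with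
      | h v =>
        induction b using SimpleGraph.ConnectedComponent.ind with
        | h w => exact SimpleGraph.ConnectedComponent.sound (hpre v w)⟩
    exact Finite.card_le_one_iff_subsingleton.2 inferInstance
  · exfalso
    apply hpre
    intro v w
    obtain ⟨s, hs, d, hd, hsd⟩ := v
    obtain ⟨t, ht, e, he, hte⟩ := w
    rcases h s d hs hd hsd with h1 | ⟨hr', hs', h1⟩
    · exact h1 _ _
    rcases h t e ht he hte with h2 | ⟨hr'', ht', h2⟩
    · exact h2 _ _
    exact h1.symm.trans h2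

theorem adj_of_dvd {r s d : ℕ} (hr : r.Prime) (hs : s.Prime) (hd : d ∈ Cfsg.charDegrees G)
    (hrd : r ∣ d) (hsd : s ∣ d) (hr' : r ∈ Cfsg.degreePrimes G) (hs' : s ∈ Cfsg.degreePrimes G) :
    ((Cfsg.degreeGraph G).induce (Cfsg.degreePrimes G)).Reachable ⟨r, hr'⟩ ⟨s, hs'⟩ := by
  rcases eq_or_ne r s with h | h
  · subst h; exact SimpleGraph.Reachable.rfl
  · exact SimpleGraph.Adj.reachable ⟨h, hr, hs, d, hd,
      Nat.Coprime.mul_dvd_of_dvd_of_dvd ((Nat.coprime_primes hr hs).2 h) hrd hsd⟩

/-- A prime dividing all nonlinear degrees connects the degree graph. -/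
theorem components_le_one_of_common {p : ℕ} (hp : p.Prime)
    (h : ∀ d ∈ Cfsg.charDegrees G, d ≠ 1 → p ∣ d) :
    Nat.card ((Cfsg.degreeGraph G).induce (Cfsg.degreePrimes G)).ConnectedComponent ≤ 1 :=
  components_le_one hp fun s d hs hd hsd => by
    have hd1 : d ≠ 1 := fun e => hs.not_dvd_one (e ▸ hsd)
    exact Or.inr ⟨⟨hp, d, hd, h d hd hd1⟩, ⟨hs, d, hd, hsd⟩,
      adj_of_dvd hp hs hd (h d hd hd1) hsd _ _⟩

/-- Two components and no divisibility among the degrees: exactly three degrees. -/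
theorem three_degrees [Group.IsSolvable G] (hND : ND G)
    (htwo : Nat.card ((Cfsg.degreeGraph G).induce (Cfsg.degreePrimes G)).ConnectedComponent = 2) :
    Nat.card ↥(Cfsg.charDegrees G) = 3 := by
  classical
  have hna : commutator G ≠ ⊥ := by
    intro h0
    haveI : IsEmpty (Cfsg.degreePrimes G) := ⟨fun ⟨r, hr, d, ⟨χ, hχ⟩, hrd⟩ => by
      rw [← hχ, H30.ThreeDegrees.charDegree_eq_one_of_commutator χ fun x hx => by
        rw [h0, Subgroup.mem_bot] at hx; rw [hx]] at hrd
      exact hr.not_dvd_one hrd⟩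
    haveI : IsEmpty ((Cfsg.degreeGraph G).induce (Cfsg.degreePrimes G)).ConnectedComponent :=
      ⟨fun c => c.ind fun v => isEmptyElim v⟩
    simp at htwo
  obtain ⟨N, hN⟩ := {N : Subgroup G | N.Normal ∧ ¬ commutator G ≤ N}.toFinite.exists_maximal
    ⟨⊥, inferInstance, fun h => hna (le_bot_iff.mp h)⟩
  obtain ⟨hNn, hNc⟩ := hN.prop
  have hNmax : ∀ D : Subgroup G, D.Normal ∧ ¬ commutator G ≤ D → N ≤ D → N = D := fun D hD hle =>
    le_antisymm hle (hN.le_of_ge hD hle)
  let π := QuotientGroup.mk' N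
  have hπ : Function.Surjective π := QuotientGroup.mk'_surjective N
  have hπN : ∀ x, π x = 1 ↔ x ∈ N := fun x => QuotientGroup.eq_one_iff x
  have hmapc : (commutator G).map π = commutator (G ⧸ N) := by
    rw [commutator_def, commutator_def, Subgroup.map_commutator,
      Subgroup.map_top_of_surjective π hπ]
  have hnab : commutator (G ⧸ N) ≠ ⊥ := fun h => hNc (by
    rw [← hmapc, Subgroup.map_eq_bot_iff, QuotientGroup.ker_mk'] at h
    exact h)
  have hmin : ∀ D : Subgroup (G ⧸ N), D.Normal → D ≠ ⊥ → commutator (G ⧸ N) ≤ D := by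
    intro D hD hne
    by_contra hle
    have hle' : ¬ commutator G ≤ D.comap π := fun h => hle (by
      rw [← hmapc]; exact Subgroup.map_le_iff_le_comap.mpr h)
    have h := hNmax (D.comap π) ⟨hD.comap π, hle'⟩ (fun x hx => by
      show π x ∈ D
      rw [(hπN x).mpr hx]; exact one_mem D)
    refine hne (eq_bot_iff.mpr fun d hd => ?_)
    obtain ⟨x, rfl⟩ := hπ d
    have hx : x ∈ D.comap π := hd
    rw [← h] at hx
    exact (hπN x).mpr hx
  haveI : Group.IsSolvable (G ⧸ N) := inferInstance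
  haveI : Fintype (G ⧸ N) := Fintype.ofFinite _
  rcases MinNonabelian.main inferInstance hnab hmin with ⟨p, hp, hQ⟩ |
    ⟨C₀, q, hq, hC₀n, hC₀top, hC₀bot, hC₀c, hC₀q, hC₀ab, hC₀free⟩
  · -- a nonabelian quotient of prime power order
    haveI := Fact.mk hp
    obtain ⟨β, hβ⟩ : ∃ β : Cfsg.IrrCharacter (G ⧸ N), (β : G ⧸ N → ℂ) 1 ≠ 1 := by
      by_contra h
      push Not at h
      exact hnab (by
        rw [commutator_eq_bot_iff_center_eq_top, Subgroup.eq_top_iff']
        exact fun a => Subgroup.mem_center_iff.mpr fun b => commutative_iff_forall_linear.mpr h b a)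
    obtain ⟨n, -, hn1, hnd, -⟩ := IsIrr.degree_dvd β.2
    obtain ⟨a, ha⟩ := hQ.exists_card_eq
    have hpn : p ∣ n := by
      obtain ⟨i, -, hi⟩ := (Nat.dvd_prime_pow hp).mp (ha ▸ hnd)
      rcases i with _ | i
      · exact absurd (by rw [hn1, hi, pow_zero, Nat.cast_one]) hβ
      · exact hi ▸ dvd_pow_self p i.succ_ne_zero
    have hβG : Cfsg.IsIrrCharacter G (fun g => (β : G ⧸ N → ℂ) (π g)) :=
      CharInduce.IsIrr.comp β.2 π hπ
    have hβ1 : (fun g => (β : G ⧸ N → ℂ) (π g)) 1 = (n : ℂ) := by simp [hn1]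
    exfalso
    have hle := components_le_one_of_common hp (G := G) fun d hd hd1 => by
      obtain ⟨⟨χ, hχ⟩, hd'⟩ := hd
      obtain ⟨m, -, hm⟩ := IsIrr.exists_degree hχ
      rw [← hd', charDegree_eq hm] at hd1 ⊢
      have hmd : m ∈ Cfsg.charDegrees G := mem_degrees hχ hm
      by_contra hpm
      -- restrict in two abelian steps
      set M₁ := (commutator (G ⧸ N)).comap π with hM₁
      haveI : M₁.Normal := Subgroup.Normal.comap inferInstance π
      haveI : Fintype M₁ := Fintype.ofFinite _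
      have hNM : N ≤ M₁ := fun x hx => by
        show π x ∈ commutator (G ⧸ N)
        rw [(hπN x).mpr hx]; exact one_mem _
      have hab₁ : ∀ a b : G ⧸ M₁, a * b = b * a := fun a b => by
        induction a using QuotientGroup.induction_on with
        | H a =>
          induction b using QuotientGroup.induction_on with
          | H b =>
            rw [← QuotientGroup.mk_mul, ← QuotientGroup.mk_mul, QuotientGroup.eq]
            show π _ ∈ commutator (G ⧸ N)
            have := Subgroup.commutator_mem_commutator (Subgroup.mem_top (π b⁻¹))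
              (Subgroup.mem_top (π a⁻¹))
            simpa [commutator_def, commutatorElement_def, mul_assoc] using this
      have hcop : ∀ k : ℕ, k ∣ Nat.card (G ⧸ N) → Nat.Coprime m k := fun k hk => by
        obtain ⟨i, -, rfl⟩ := (Nat.dvd_prime_pow hp).mp (ha ▸ hk)
        exact Nat.Coprime.pow_right i ((Nat.Prime.coprime_iff_not_dvd hp).mpr hpm).symm
      have hidx : M₁.index ∣ Nat.card (G ⧸ N) := by
        rw [← Subgroup.index_eq_card]
        exact Subgroup.index_dvd_of_le hNM
      obtain ⟨-, -, m', -, -, hm', -, -, hres₁⟩ := DegreeSplit.prime_dvd_degree M₁ hab₁ hχ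
      rw [hm, Nat.cast_inj] at hm'
      subst hm'
      have h1 := hres₁ (hcop _ hidx)
      haveI : Fintype (N.subgroupOf M₁) := Fintype.ofFinite _
      have hab₂ : ∀ a b : M₁ ⧸ N.subgroupOf M₁, a * b = b * a := fun a b => by
        induction a using QuotientGroup.induction_on with
        | H a =>
          induction b using QuotientGroup.induction_on with
          | H b =>
            rw [← QuotientGroup.mk_mul, ← QuotientGroup.mk_mul, QuotientGroup.eq, Subgroup.mem_subgroupOf,
              ← hπN]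
            have hc : ∀ x y : M₁, π x * π y = π y * π x := fun x y => by
              have h2 : ⁅commutator (G ⧸ N), commutator (G ⧸ N)⁆ = ⊥ := by
                by_contra hne
                have hlt := Group.IsSolvable.commutator_lt_of_ne_bot (H := commutator (G ⧸ N)) hnab
                exact absurd (hmin _ inferInstance hne) (not_le_of_gt hlt)
              exact commutatorElement_eq_one_iff_mul_comm.mp (by
                rw [← Subgroup.mem_bot, ← h2]; exact Subgroup.commutator_mem_commutator x.2 y.2)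
            have h4 : π (a : G) * π b = π b * π a := hc a b
            show π _ = 1
            simp only [Subgroup.coe_mul, Subgroup.coe_inv, map_mul, map_inv]
            rw [h4, inv_mul_cancel]
      have hidx₂ : (N.subgroupOf M₁).index ∣ Nat.card (G ⧸ N) := by
        rw [← Subgroup.index_eq_card, ← Subgroup.relIndex_mul_index hNM]
        exact Dvd.intro _ rfl
      obtain ⟨-, -, m'', -, -, hm'', -, -, hres₂⟩ := DegreeSplit.prime_dvd_degree _ hab₂ h1
      rw [OneMemClass.coe_one, hm, Nat.cast_inj] at hm''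
      subst hm''
      have h2 := hres₂ (hcop _ hidx₂)
      haveI : Fintype N := Fintype.ofFinite _
      have h3 : Cfsg.IsIrrCharacter N (fun k : N => χ k) :=
        CharInduce.IsIrr.comp h2 (Subgroup.subgroupOfEquivOfLe hNM).symm.toMonoidHom
          (Subgroup.subgroupOfEquivOfLe hNM).symm.surjective
      have hker : ∀ x ∈ N, (fun g => (β : G ⧸ N → ℂ) (π g)) x = (fun g => (β : G ⧸ N → ℂ) (π g)) 1 :=
        fun x hx => by
          show (β : G ⧸ N → ℂ) (π x) = (β : G ⧸ N → ℂ) (π 1)
          rw [(hπN x).mpr hx, map_one]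
      have hprod := (DegreeSplit.twist N hχ h3).1 _ hβG hker

      have hm0 : m ≠ 0 := fun h0 => hpm (h0 ▸ dvd_zero p)
      have hn2 : 2 ≤ n := hp.two_le.trans (Nat.le_of_dvd
        (Nat.pos_of_ne_zero fun h0 => by
          rw [h0, Nat.cast_zero] at hn1
          exact CharBasic.IsIrr.one_ne_zero β.2 hn1) hpn)
      have hnm : n * m ∈ Cfsg.charDegrees G :=
        mem_degrees hprod (by rw [Pi.mul_apply, map_one, hn1, hm]; push_cast; ring)
      exact hND m hmd _ hnm (by omega) (lt_mul_of_one_lt_left (by omega) (by omega))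
        (dvd_mul_left m n)
    omega
  -- the Frobenius case
  haveI := Fact.mk hq
  set C := C₀.comap π with hC
  haveI : C.Normal := Subgroup.Normal.comap hC₀n π
  haveI : Fintype C := Fintype.ofFinite _
  have hNC : N ≤ C := fun x hx => by
    show π x ∈ C₀
    rw [(hπN x).mpr hx]; exact one_mem _
  set N' := N.subgroupOf C with hN'
  haveI : Fintype N' := Fintype.ofFinite _
  have habC : ∀ a b : G ⧸ C, a * b = b * a := fun a b => by
    induction a using QuotientGroup.induction_on with
    | H a =>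
      induction b using QuotientGroup.induction_on with
      | H b =>
        rw [← QuotientGroup.mk_mul, ← QuotientGroup.mk_mul, QuotientGroup.eq]
        show π _ ∈ C₀
        refine hC₀c ?_
        have := Subgroup.commutator_mem_commutator (Subgroup.mem_top (π b⁻¹))
          (Subgroup.mem_top (π a⁻¹))
        simpa [commutator_def, commutatorElement_def, mul_assoc] using this
  have habN : ∀ a b : C ⧸ N', a * b = b * a := fun a b => by
    induction a using QuotientGroup.induction_on with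
    | H a =>
      induction b using QuotientGroup.induction_on with
      | H b =>
        rw [← QuotientGroup.mk_mul, ← QuotientGroup.mk_mul, QuotientGroup.eq, Subgroup.mem_subgroupOf,
          ← hπN]
        show π _ = 1
        simp only [Subgroup.coe_mul, Subgroup.coe_inv, map_mul, map_inv]
        rw [hC₀ab (π a) a.2 (π b) b.2, inv_mul_cancel]
  have hCq : ∀ k : ℕ, ¬ q ∣ k → Nat.Coprime k N'.index := fun k hk => by
    obtain ⟨i, hi⟩ := hC₀q.exists_card_eq
    have hNidx : N'.index = q ^ i := by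
      have h := Subgroup.relIndex_ker (K := C) π
      rw [hC, Subgroup.map_comap_eq_self_of_surjective hπ, QuotientGroup.ker_mk'] at h
      rw [← hi]
      exact h
    rw [hNidx]
    exact Nat.Coprime.pow_right i ((Nat.Prime.coprime_iff_not_dvd hq).mpr hk).symm
  have hfree : ∀ g : G, g ∉ C → ∀ l : C →* ℂˣ, N' ≤ l.ker →
      CharInduce.conjFun C (fun c => (l c : ℂ)) g = (fun c => (l c : ℂ)) → l = 1 := by
    intro g hg l hl hfix
    refine MonoidHom.ext fun c => ?_
    obtain ⟨d, hd, hdc⟩ := hC₀free (π g) hg (π c) c.2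
    obtain ⟨d', rfl⟩ := hπ d
    have hcd : (⟨g * d' * g⁻¹, (inferInstance : C.Normal).conj_mem d' hd g⟩ : C) *
        (⟨d', hd⟩ : C)⁻¹ * c⁻¹ ∈ N' := by
      rw [Subgroup.mem_subgroupOf, ← hπN]
      show π _ = 1
      simp only [Subgroup.coe_mul, Subgroup.coe_inv, map_mul, map_inv, hdc, mul_inv_cancel]
    have h := MonoidHom.mem_ker.mp (hl hcd)
    have hf : l ⟨g * d' * g⁻¹, (inferInstance : C.Normal).conj_mem d' hd g⟩ = l ⟨d', hd⟩ :=
      Units.ext (congrFun hfix ⟨d', hd⟩)
    rw [map_mul, map_mul, map_inv, map_inv, hf, mul_inv_cancel, one_mul, inv_eq_one] at h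
    exact h
  have hl₀ : ∃ l₀ : C →* ℂˣ, N' ≤ l₀.ker ∧ l₀ ≠ 1 := by
    obtain ⟨x, hx, hx1⟩ := C₀.bot_or_exists_ne_one.resolve_left hC₀bot
    obtain ⟨x', rfl⟩ := hπ x
    letI : CommGroup (C ⧸ N') := { (inferInstance : Group (C ⧸ N')) with mul_comm := habN }
    have hne : ((⟨x', hx⟩ : C) : C ⧸ N') ≠ 1 := fun h => hx1 (by
      rw [QuotientGroup.eq_one_iff, Subgroup.mem_subgroupOf] at h
      exact (hπN x').mpr h)
    obtain ⟨l, hl⟩ := CommGroup.exists_apply_ne_one_of_hasEnoughRootsOfUnity (C ⧸ N') ℂ hne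
    exact ⟨l.comp (QuotientGroup.mk' N'), fun n hn => by
      rw [MonoidHom.mem_ker, MonoidHom.comp_apply, QuotientGroup.mk'_apply,
        (QuotientGroup.eq_one_iff n).mpr hn, map_one], fun h => hl (DFunLike.congr_fun h ⟨x', hx⟩)⟩
  have hNG : ∀ (g : G) (n : C), n ∈ N' →
      (⟨g * n * g⁻¹, (inferInstance : C.Normal).conj_mem n n.2 g⟩ : C) ∈ N' := fun g n hn =>
    Subgroup.mem_subgroupOf.mpr (hNn.conj_mem n hn g)
  have hbig : ∀ (ψ : C → ℂ) (k : ℕ), Cfsg.IsIrrCharacter C ψ → ψ 1 = k → ¬ q ∣ k →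
      C.index * k ∈ Cfsg.charDegrees G := by
    intro ψ k hψ hk hqk
    obtain ⟨-, -, k', -, -, hk', -, -, hres⟩ := DegreeSplit.prime_dvd_degree N' habN hψ
    rw [hk, Nat.cast_inj] at hk'
    subst hk'
    obtain ⟨χ, hχ, hχ1⟩ := DegreeSplit.exists_degree_index_mul C N' hNG hl₀ hfree hψ (hres (hCq _ hqk))
    exact mem_degrees hχ (by rw [hχ1, hk]; push_cast; ring)
  have hf1 : C.index ≠ 1 := fun h => by
    rw [Subgroup.index_eq_one, hC] at h
    refine hC₀top ((Subgroup.eq_top_iff' C₀).mpr fun y => ?_)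
    obtain ⟨y', rfl⟩ := hπ y
    exact (h ▸ Subgroup.mem_top y' : y' ∈ C₀.comap π)
  obtain ⟨p, hp, hpf⟩ := Nat.exists_prime_and_dvd hf1
  have hfdeg : C.index ∈ Cfsg.charDegrees G := by
    have := hbig _ 1 CharBasic.isIrrCharacter_one (by simp) hq.not_dvd_one
    rwa [mul_one] at this
  set f := C.index with hf
  have hfgt : 1 < f := lt_of_le_of_ne (Nat.pos_of_ne_zero Subgroup.index_ne_zero_of_finite)
    (Ne.symm hf1)
  have hsmall : ∀ ψ : Cfsg.IrrCharacter C, ¬ q ∣ Cfsg.charDegree (ψ : C → ℂ) →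
      Cfsg.charDegree (ψ : C → ℂ) = 1 := by
    intro ψ hψ
    have h := hbig _ _ ψ.2 (H30.ThreeDegrees.apply_one ψ) hψ
    have he := hND.eq_of_dvd hfdeg h hfgt (dvd_mul_right _ _)
    exact (Nat.eq_of_mul_eq_mul_left (lt_trans Nat.one_pos hfgt) (he.symm.trans (mul_one f).symm))
  have hsplit : ∀ n ∈ Cfsg.charDegrees G, n ≠ 1 → n = f ∨ q ∣ n := by
    rintro n ⟨χ, rfl⟩ hn1
    obtain ⟨θ, hθ⟩ := CharInduce.exists_constituent
      (CharInduce.IsChar.res (CharBasic.IsIrr.isCharacter χ.2) C) (fun e => by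
        have := congrFun e 1
        simp only [Pi.zero_apply] at this
        exact CharBasic.IsIrr.one_ne_zero χ.2 this)
    obtain ⟨hdvd, hidx⟩ := S0887.result C _ χ.2 _ θ.2 hθ _ _ (H30.ThreeDegrees.apply_one χ)
      (H30.ThreeDegrees.apply_one θ)
    by_cases hqm : q ∣ Cfsg.charDegree (θ : C → ℂ)
    · exact Or.inr (hqm.trans hdvd)
    · rw [hsmall θ hqm, Nat.div_one] at hidx
      exact Or.inl (hND.eq_of_dvd ⟨χ, rfl⟩ hfdeg
        (lt_of_le_of_ne (H30.ThreeDegrees.charDegree_pos χ) (Ne.symm hn1)) hidx)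
  have hqf : ¬ q ∣ f := fun h => by
    have hle := components_le_one_of_common hq (G := G) fun d hd hd1 => by
      rcases hsplit d hd hd1 with e | e
      · exact e ▸ h
      · exact e
    omega
  have hcopf : ∀ n ∈ Cfsg.charDegrees G, q ∣ n → Nat.Coprime n f := by
    intro n hn hqn
    by_contra hc
    obtain ⟨r, hr, hrn, hrf⟩ := Nat.Prime.not_coprime_iff_dvd.1 hc
    have hrmem : r ∈ Cfsg.degreePrimes G := ⟨hr, n, hn, hrn⟩
    have hqmem : q ∈ Cfsg.degreePrimes G := ⟨hq, n, hn, hqn⟩
    have hle := components_le_one hr (G := G) fun s d hs hd hsd => Or.inr ⟨hrmem, ⟨hs, d, hd, hsd⟩, by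
      rcases hsplit d hd (fun e => hs.not_dvd_one (e ▸ hsd)) with e | e
      · exact adj_of_dvd hr hs hd (e ▸ hrf) hsd _ _
      · exact (adj_of_dvd hr hq hn hrn hqn hrmem hqmem).trans (adj_of_dvd hq hs hd e hsd _ _)⟩
    omega
  -- characters of `C`
  have hext : ∀ ψ : Cfsg.IrrCharacter C, Cfsg.charDegree (ψ : C → ℂ) ≠ 1 →
      ∃ χ : Cfsg.IrrCharacter G, Cfsg.charDegree (χ : G → ℂ) = Cfsg.charDegree (ψ : C → ℂ) ∧
        (fun c : C => (χ : G → ℂ) c) = ψ ∧ q ∣ Cfsg.charDegree (ψ : C → ℂ) := by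
    intro ψ hψ
    have hqψ : q ∣ Cfsg.charDegree (ψ : C → ℂ) := by
      by_contra h
      exact hψ (hsmall ψ h)
    obtain ⟨χ, hχ⟩ := H84.exists_irr_above (N := C) ψ.2
    obtain ⟨hdvd, -⟩ := S0887.result C _ χ.2 _ ψ.2 hχ _ _ (H30.ThreeDegrees.apply_one χ)
      (H30.ThreeDegrees.apply_one ψ)
    obtain ⟨-, -, n', -, -, hn', -, -, hres⟩ := DegreeSplit.prime_dvd_degree C habC χ.2
    rw [H30.ThreeDegrees.apply_one χ, Nat.cast_inj] at hn'
    subst hn'
    have hirr := hres (hcopf _ ⟨χ, rfl⟩ (hqψ.trans hdvd))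
    have heq : (fun c : C => (χ : G → ℂ) c) = ψ := by
      by_contra hne
      exact hχ (CharBasic.classInner_irr_of_ne hirr ψ.2 hne)
    refine ⟨χ, ?_, heq, hqψ⟩
    have h1 := congrFun heq 1
    simp only [OneMemClass.coe_one, H30.ThreeDegrees.apply_one, Nat.cast_inj] at h1
    exact h1
  obtain ⟨g, s, hgC, hgs⟩ : ∃ (g : G) (s : ℕ), g ∉ C ∧ g ^ p ^ s = 1 := by
    haveI := Fact.mk hp
    obtain ⟨x, hx⟩ := exists_prime_orderOf_dvd_card' (G := G ⧸ C) p
      (by rw [← Subgroup.index_eq_card]; exact hpf)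
    obtain ⟨h, rfl⟩ := QuotientGroup.mk_surjective x
    obtain ⟨a, m, hm, he⟩ :=
      Nat.exists_eq_pow_mul_and_not_dvd (orderOf_pos h).ne' p hp.ne_one
    refine ⟨h ^ m, a, fun hc => hm ?_, by rw [← pow_mul, mul_comm, ← he, pow_orderOf_eq_one]⟩
    rw [← hx]
    apply orderOf_dvd_of_pow_eq_one
    rw [← QuotientGroup.mk_pow, QuotientGroup.eq_one_iff]
    exact hc
  let D : Data C :=
    { σ := MulAut.conjNormal g
      p := p
      q := q
      s := s
      k := Nat.log q N'.index
      N := N'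
      hp := hp
      hq := hq
      hpq := fun e => hqf (e ▸ hpf)
      hσ := fun c => by
        have hit : ∀ (n : ℕ), (((⇑(MulAut.conjNormal g : MulAut C))^[n] c : C) : G) =
            g ^ n * c * (g ^ n)⁻¹ := fun n => by
          induction n with
          | zero => simp
          | succ n ih =>
            rw [Function.iterate_succ_apply', MulAut.conjNormal_apply, ih, pow_succ']
            group
        exact Subtype.ext (by rw [hit, hgs]; group)
      hfix := fun ψ hψ => by
        obtain ⟨χ, -, hχ, -⟩ := hext ψ hψ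
        rw [← hχ]
        funext c
        show (χ : G → ℂ) ((MulAut.conjNormal g c : C) : G) = (χ : G → ℂ) c
        rw [MulAut.conjNormal_apply]
        exact CharBasic.IsIrr.isClassFunction χ.2 _ _
      hnd := fun a ha b hb ha1 hab => by
        obtain ⟨ψ, rfl⟩ := ha
        obtain ⟨ψ', rfl⟩ := hb
        obtain ⟨χ, hχ, -, -⟩ := hext ψ (by omega)
        obtain ⟨χ', hχ', -, -⟩ := hext ψ' (by omega)
        exact hND _ ⟨χ, hχ⟩ _ ⟨χ', hχ'⟩ ha1 hab
      hdeg := fun ψ hψ => by
        obtain ⟨-, -, -, h⟩ := hext ψ hψ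
        exact h
      hpdeg := fun ψ hd => by
        by_cases hψ : Cfsg.charDegree (ψ : C → ℂ) = 1
        · exact hp.not_dvd_one (hψ ▸ hd)
        · obtain ⟨χ, hχ, -, hqψ⟩ := hext ψ hψ
          exact hp.not_dvd_one (hcopf _ ⟨χ, hχ⟩ hqψ ▸ Nat.dvd_gcd hd hpf)
      hNc := by
        rw [commutator_def, Subgroup.commutator_le]
        intro a _ b _
        rw [← QuotientGroup.eq_one_iff, ← QuotientGroup.mk'_apply, map_commutatorElement,
          commutatorElement_eq_one_iff_mul_comm]
        exact habN _ _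
      hNidx := by
        obtain ⟨i, hi⟩ := hC₀q.exists_card_eq
        have hNi : N'.index = q ^ i := by
          have h := Subgroup.relIndex_ker (K := C) π
          rw [hC, Subgroup.map_comap_eq_self_of_surjective hπ, QuotientGroup.ker_mk'] at h
          rw [← hi]
          exact h
        rw [hNi, Nat.log_pow hq.one_lt]
      hNtop := fun h => by
        obtain ⟨x, hx, hx1⟩ := C₀.bot_or_exists_ne_one.resolve_left hC₀bot
        obtain ⟨x', rfl⟩ := hπ x
        exact hx1 ((hπN x').2 (Subgroup.mem_subgroupOf.1 (h ▸ Subgroup.mem_top (⟨x', hx⟩ : C))))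
      hfpf := fun c hc => by
        rw [Subgroup.mem_subgroupOf, ← hπN] at hc ⊢
        have hgC₀ : π g ∉ C₀ := hgC
        let τ : C₀ → C₀ := fun d =>
          ⟨π g * d * (π g)⁻¹ * (d : G ⧸ N)⁻¹,
            C₀.mul_mem (hC₀n.conj_mem _ d.2 _) (C₀.inv_mem d.2)⟩
        have hτ : Function.Surjective τ := fun e => by
          obtain ⟨d, hd, hde⟩ := hC₀free (π g) hgC₀ e e.2
          exact ⟨⟨d, hd⟩, Subtype.ext hde⟩
        have h1 : τ ⟨π c, c.2⟩ = τ 1 := Subtype.ext (by
          simp only [τ, OneMemClass.coe_one, mul_one, inv_one, mul_inv_cancel]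
          rw [Subgroup.coe_mul, Subgroup.coe_inv, MulAut.conjNormal_apply] at hc
          simp only [map_mul, map_inv] at hc
          rw [inv_mul_eq_one] at hc
          rw [← hc, mul_inv_cancel])
        exact congrArg Subtype.val (Finite.injective_iff_surjective.2 hτ h1) }
  have hone := D.oneDegree
  obtain ⟨d, hd, hd1, hdf⟩ : ∃ d ∈ Cfsg.charDegrees G, d ≠ 1 ∧ d ≠ f := by
    by_contra h
    push Not at h
    have hle := components_le_one_of_common hp (G := G) fun d hd hd1 => (h d hd hd1) ▸ hpf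
    omega
  have hdown : ∀ n ∈ Cfsg.charDegrees G, n ≠ 1 → n ≠ f → n ∈ Cfsg.charDegrees C := by
    rintro n ⟨χ, rfl⟩ hn1 hnf
    obtain ⟨-, -, n', -, -, hn', -, -, hres⟩ := DegreeSplit.prime_dvd_degree C habC χ.2
    rw [H30.ThreeDegrees.apply_one χ, Nat.cast_inj] at hn'
    subst hn'
    refine mem_degrees (hres (hcopf _ ⟨χ, rfl⟩ ((hsplit _ ⟨χ, rfl⟩ hn1).resolve_left hnf))) ?_
    exact H30.ThreeDegrees.apply_one χ
  have hone' : (1 : ℕ) ∈ Cfsg.charDegrees G :=
    mem_degrees CharBasic.isIrrCharacter_one (by simp)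
  have hpos : ∀ n ∈ Cfsg.charDegrees G, 0 < n := by
    rintro n ⟨χ, rfl⟩; exact H30.ThreeDegrees.charDegree_pos χ
  have hset : Cfsg.charDegrees G = {1, f, d} := by
    ext n
    simp only [Set.mem_insert_iff, Set.mem_singleton_iff]
    constructor
    · intro hn
      by_cases hn1 : n = 1
      · exact Or.inl hn1
      by_cases hnf : n = f
      · exact Or.inr (Or.inl hnf)
      refine Or.inr (Or.inr ?_)
      have := hpos n hn
      have := hpos d hd
      exact hone n (hdown n hn hn1 hnf) d (hdown d hd hd1 hdf) (by omega) (by omega)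
    · rintro (e | e | e)
      · exact e ▸ hone'
      · exact e ▸ hfdeg
      · exact e ▸ hd
  rw [Nat.card_coe_set_eq, hset]
  exact Set.ncard_eq_three.2 ⟨1, f, d, Ne.symm hf1, Ne.symm hd1, Ne.symm hdf, rfl⟩

end Cfsg.Agent.H84.TwoComp
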