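import Cfsg.Agent.H84.TwoComp.Action

/-!
# All stabilizers of nontrivial linear characters of the derived group coincide
-/

set_option autoImplicit false
set_option linter.style.haveILetI false

namespace Cfsg.Agent.H84.TwoComp

open Cfsg Cfsg.Agent
open scoped commutatorElement

universe u

/-- Linear characters separate the points off a subgroup containing the derived group. -/
theorem exists_hom_ne_one_off {G : Type*} [Group G] [Finite G] (N : Subgroup G) [N.Normal]
    (hc : commutator G ≤ N) {x : G} (hx : x ∉ N) :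
    ∃ l : G →* ℂˣ, N ≤ l.ker ∧ l x ≠ 1 := by
  have hcomm : ∀ a b : G ⧸ N, a * b = b * a := fun a b => by
    induction a using QuotientGroup.induction_on with
    | H a =>
      induction b using QuotientGroup.induction_on with
      | H b =>
        rw [← QuotientGroup.mk_mul, ← QuotientGroup.mk_mul, QuotientGroup.eq]
        refine hc ?_
        have := Subgroup.commutator_mem_commutator (Subgroup.mem_top b⁻¹) (Subgroup.mem_top a⁻¹)
        simpa [commutator_def, commutatorElement_def, mul_assoc] using this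
  letI : CommGroup (G ⧸ N) := { (inferInstance : Group (G ⧸ N)) with mul_comm := hcomm }
  obtain ⟨l, hl⟩ := CommGroup.exists_apply_ne_one_of_hasEnoughRootsOfUnity (G ⧸ N) ℂ
    (a := (x : G ⧸ N)) fun h => hx ((QuotientGroup.eq_one_iff x).1 h)
  exact ⟨l.comp (QuotientGroup.mk' N), fun n hn => by
    rw [MonoidHom.mem_ker, MonoidHom.comp_apply, QuotientGroup.mk'_apply,
      (QuotientGroup.eq_one_iff n).2 hn, map_one], hl⟩

variable {H : Type u} [Group H] [Finite H] (d : Data H) (S : Split d)

theorem mem_inv_commutator (lam : commutator H →* ℂˣ) : lam ∈ Inv (H := H) (commutator H) :=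
  fun m hm l => by
    have e : MulAut.conjNormal m l = (⟨m, hm⟩ : commutator H) * l * (⟨m, hm⟩ : commutator H)⁻¹ :=
      Subtype.ext (by simp)
    rw [e, map_mul, map_mul, map_inv, mul_comm (lam ⟨m, hm⟩) (lam l), mul_inv_cancel_right]

/-- The stabilizer in the complement. -/
def stab (L : Subgroup H) [L.Normal] (μ : L →* ℂˣ) : Subgroup S.B where
  carrier := {b | act d S L b μ = μ}
  one_mem' := act_one d S L μ
  mul_mem' := fun {a b} (ha : act d S L a μ = μ) (hb : act d S L b μ = μ) => by
    show act d S L (a * b) μ = μ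
    rw [act_mul, hb, ha]
  inv_mem' := fun {a} (ha : act d S L a μ = μ) => by
    show act d S L a⁻¹ μ = μ
    conv_lhs => rw [← ha]
    rw [← act_mul, inv_mul_cancel, act_one]

theorem mem_stab {L : Subgroup H} [L.Normal] {μ : L →* ℂˣ} {b : S.B} :
    b ∈ stab d S L μ ↔ act d S L b μ = μ := Iff.rfl

theorem act_comm (L : Subgroup H) [L.Normal] (b c : S.B) (μ : L →* ℂˣ) :
    act d S L b (act d S L c μ) = act d S L c (act d S L b μ) := by
  rw [← act_mul, S.hB, act_mul]

theorem conj_eq_act {L : Subgroup H} [L.Normal] {μ : L →* ℂˣ} (hμ : μ ∈ Inv L) (x : H) (l : L) :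
    μ (MulAut.conjNormal x l) = act d S L (S.pr x)⁻¹ μ l := by
  rw [act_apply, InvMemClass.coe_inv, inv_inv]
  have hm : x * ((S.pr x : S.B) : H)⁻¹ ∈ commutator H := by
    have := (inferInstance : (commutator H).Normal).conj_mem _ (inv_pr_mul_mem d S x)
      ((S.pr x : S.B) : H)
    simpa [mul_assoc] using this
  rw [← hμ _ hm (MulAut.conjNormal ((S.pr x : S.B) : H) l)]
  congr 1
  exact Subtype.ext (by simp [mul_assoc])

theorem pr_surjective : Function.Surjective S.pr := fun b => ⟨b, S.hpr b⟩

theorem mul_inv_pr_mem (x : H) : x * ((S.pr x : S.B) : H)⁻¹ ∈ commutator H := by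
  rw [← S.hker, map_mul, map_inv, S.hpr, mul_inv_cancel]

theorem stab_index_mem (lam : commutator H →* ℂˣ) :
    (stab d S _ lam).index ∈ charDegrees H := by
  classical
  cases nonempty_fintype H
  haveI := Fintype.ofFinite (commutator H)
  set T := (stab d S (commutator H) lam).comap S.pr with hT
  haveI := Fintype.ofFinite T
  have hle : commutator H ≤ T := fun x hx => by
    rw [hT, Subgroup.mem_comap, (S.hker x).2 hx]
    exact one_mem _
  let ext : T →* ℂˣ :=
    { toFun := fun t => lam ⟨(t : H) * ((S.pr t : S.B) : H)⁻¹, mul_inv_pr_mem d S t⟩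
      map_one' := by
        rw [← map_one lam]
        congr 1
        exact Subtype.ext (by simp)
      map_mul' := fun t u => by
        have h := DFunLike.congr_fun (mem_stab d S |>.1 (inv_mem t.2))
          ⟨(u : H) * ((S.pr u : S.B) : H)⁻¹, mul_inv_pr_mem d S u⟩
        rw [act_apply, InvMemClass.coe_inv, inv_inv] at h
        rw [← h, ← map_mul]
        congr 1
        exact Subtype.ext (by simp [mul_assoc]) }
  have hext : ∀ m : commutator H, ext (Subgroup.inclusion hle m) = lam m := fun m => by
    show lam _ = lam m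
    congr 1
    refine Subtype.ext ?_
    show (m : H) * ((S.pr (m : H) : S.B) : H)⁻¹ = m
    rw [(S.hker _).2 m.2]
    simp
  have hI : T = CharInduce.inertia (commutator H) (fun m => (lam m : ℂ)) := by
    refine le_antisymm (fun x hx => ?_) fun x hx => ?_
    · rw [CharInduce.mem_inertia, CharInduce.conjFun_eq_comp]
      funext m
      refine congrArg Units.val ?_
      refine (conj_eq_act d S (mem_inv_commutator lam) x m).trans ?_
      rw [mem_stab d S |>.1 (inv_mem (show S.pr x ∈ stab d S _ lam from hx))]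
    · rw [CharInduce.mem_inertia, CharInduce.conjFun_eq_comp] at hx
      show S.pr x ∈ stab d S _ lam
      rw [← inv_mem_iff, mem_stab]
      refine MonoidHom.ext fun m => Units.ext ?_
      rw [← conj_eq_act d S (mem_inv_commutator lam) x m]
      exact congrFun hx m
  obtain ⟨hirr, -⟩ := H85.isIrr_indFun_ext (commutator H) (CharInduce.isIrrCharacter_hom lam) T hI
    hle (CharInduce.isIrrCharacter_hom ext) fun n => congrArg Units.val (hext n)
  refine mem_degrees_of_eq hirr ?_
  rw [CharInduce.indFun_one, map_one, Units.val_one, mul_one, hT,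
    Subgroup.index_comap_of_surjective _ (pr_surjective d S)]

theorem stab_ne_top {lam : commutator H →* ℂˣ} (hlam : lam ≠ 1) :
    stab d S _ lam ≠ ⊤ := by
  intro htop
  apply d.hNtop
  rw [Subgroup.eq_top_iff']
  intro x
  -- every element of the complement is then fixed by the operator
  have hall : ∀ b : S.B, rho d S b = b := fun b => by
    by_contra hb
    exact hlam (eq_one_of_fixed_moved d S _ le_rfl hb (htop ▸ Subgroup.mem_top b : b ∈ stab d S _ lam))
  refine d.hfpf x (d.hNc ?_)
  have h := hall (S.pr x)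
  rw [rho_apply] at h
  have h2 : S.pr (d.σ x) = S.pr x := by
    rw [← h]
    refine (pr_eq_of_mem d S ?_).symm
    rw [← map_inv, ← map_mul]
    exact mem_commutator_apply d.σ (inv_pr_mul_mem d S x)
  rw [← S.hker, map_mul, map_inv, h2, inv_mul_cancel]

theorem stab_le_of_le {lam mu : commutator H →* ℂˣ} (hlam : lam ≠ 1) (hmu : mu ≠ 1)
    (h : stab d S _ lam ≤ stab d S _ mu) : stab d S _ lam = stab d S _ mu := by
  have h1 := stab_index_mem d S mu
  have h2 := stab_index_mem d S lam
  have hgt : 1 < (stab d S _ mu).index :=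
    lt_of_le_of_ne (Nat.pos_of_ne_zero Subgroup.index_ne_zero_of_finite)
      (Ne.symm fun e => stab_ne_top d S hmu (Subgroup.index_eq_one.1 e))
  have he := d.hnd.eq_of_dvd h1 h2 hgt (Subgroup.index_dvd_of_le h)
  refine Subgroup.eq_of_le_of_card_ge h (le_of_eq ?_)
  have e1 := (stab d S _ lam).card_mul_index
  have e2 := (stab d S _ mu).card_mul_index
  rw [← he, ← e2] at e1
  exact (Nat.eq_of_mul_eq_mul_right (Nat.lt_of_lt_of_le Nat.one_pos hgt.le) e1).symm

theorem comm_aux₁ {A : Type*} [CommGroup A] (a a' l n : A) (h : a * a' = l * n) :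
    a * l⁻¹ = n * a'⁻¹ := by
  rw [eq_mul_inv_iff_mul_eq, mul_right_comm, h, mul_comm l n, mul_inv_cancel_right]

theorem comm_aux₂ {A : Type*} [CommGroup A] (x y z w : A) :
    x * y⁻¹ * (z * w⁻¹)⁻¹ = x * z⁻¹ * (y * w⁻¹)⁻¹ := by
  simp only [mul_inv_rev, inv_inv, mul_assoc, mul_left_comm, mul_comm]

/-- All nontrivial linear characters of the derived group have the same stabilizer. -/
theorem stab_eq {lam mu : commutator H →* ℂˣ} (hlam : lam ≠ 1) (hmu : mu ≠ 1) :
    stab d S _ lam = stab d S _ mu := by
  refine stab_le_of_le d S hlam hmu fun b hb => ?_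
  by_contra hbm
  rw [mem_stab] at hb hbm
  let δ : (commutator H →* ℂˣ) → (commutator H →* ℂˣ) := fun z => act d S _ b z * z⁻¹
  have hδle : ∀ z, stab d S _ z ≤ stab d S _ (δ z) := fun z c hc => by
    rw [mem_stab] at hc ⊢
    show act d S _ c (act d S _ b z * z⁻¹) = _
    rw [act_mul_hom, act_inv_hom, act_comm, hc]
  have hδ : ∀ z, z ≠ 1 → δ z ≠ 1 → act d S _ b (δ z) ≠ δ z := fun z hz hδz hfix => by
    have := stab_le_of_le d S hz hδz (hδle z)
    exact hδz (mul_inv_eq_one.2 (mem_stab d S |>.1 (this ▸ hfix : b ∈ stab d S _ z)))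
  have hν1 : δ mu ≠ 1 := fun h => hbm (mul_inv_eq_one.1 h)
  have hν := hδ mu hmu hν1
  have hκ1 : lam * δ mu ≠ 1 := fun h => hν (by
    have e : δ mu = lam⁻¹ := eq_inv_of_mul_eq_one_right (α := commutator H →* ℂˣ) h
    rw [e, act_inv_hom, hb])
  have hsplit : stab d S _ (lam * δ mu) ≤ stab d S _ lam ⊓ stab d S _ (δ mu) := fun c hc => by
    rw [mem_stab, act_mul_hom] at hc
    have hx : act d S _ c lam * lam⁻¹ = δ mu * (act d S _ c (δ mu))⁻¹ := by
      exact comm_aux₁ (A := commutator H →* ℂˣ) _ _ _ _ hc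
    have hδeq : δ mu * (act d S _ c (δ mu))⁻¹ = δ (mu * (act d S _ c mu)⁻¹) := by
      show act d S _ b mu * mu⁻¹ * (act d S _ c (act d S _ b mu * mu⁻¹))⁻¹ =
        act d S _ b (mu * (act d S _ c mu)⁻¹) * (mu * (act d S _ c mu)⁻¹)⁻¹
      rw [act_mul_hom, act_mul_hom, act_inv_hom, act_inv_hom, act_comm d S _ b c mu]
      exact comm_aux₂ (A := commutator H →* ℂˣ) _ _ _ _
    have hfixx : act d S _ b (act d S _ c lam * lam⁻¹) = act d S _ c lam * lam⁻¹ := by
      rw [act_mul_hom, act_inv_hom, act_comm, hb]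
    have hx1 : act d S _ c lam * lam⁻¹ = 1 := by
      by_contra hne
      rw [hx, hδeq] at hfixx hne
      exact hδ _ (fun h0 => hne (by show act d S _ b _ * _ = 1; rw [h0, act_one_hom]; exact mul_inv_cancel (G := commutator H →* ℂˣ) 1))
        hne hfixx
    have hcl : act d S _ c lam = lam := mul_inv_eq_one.1 hx1
    exact ⟨hcl, by rw [hcl] at hc; exact mul_left_cancel hc⟩
  have e1 := stab_le_of_le d S hκ1 hlam (hsplit.trans inf_le_left)
  have e2 := stab_le_of_le d S hκ1 hν1 (hsplit.trans inf_le_right)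
  have hbν : b ∈ stab d S _ (δ mu) := by
    rw [← e2, e1]; exact hb
  exact hν hbν

end Cfsg.Agent.H84.TwoComp
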