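import Cfsg.Agent.H84.TwoComp.Stab

/-!
# Characters above an invariant character of the second derived group are fully ramified
-/

set_option autoImplicit false
set_option linter.style.haveILetI false

namespace Cfsg.Agent.H84.TwoComp

open Cfsg Cfsg.Agent
open scoped commutatorElement

universe u

variable {H : Type u} [Group H] [Finite H]

/-- The derived group of the derived group. -/
abbrev second (H : Type u) [Group H] : Subgroup H := ⁅commutator H, commutator H⁆

theorem second_le (H : Type u) [Group H] : second H ≤ commutator H :=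
  Subgroup.commutator_le_right _ _

/-- A linear character of the derived group kills the second derived group. -/
theorem hom_second (lam : commutator H →* ℂˣ) {l : H} (hl : l ∈ second H) :
    lam ⟨l, second_le H hl⟩ = 1 := by
  have h : (commutator (commutator H)).map (commutator H).subtype = second H := by
    rw [Subgroup.map_subtype_commutator]
  rw [← h] at hl
  obtain ⟨x, hx, rfl⟩ := hl
  exact H84.eq_one_of_mem_commutator_hom lam hx

/-- `θ` restricts to the second derived group as a multiple of `μ`. -/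
def Over (μ : second H →* ℂˣ) (θ : commutator H → ℂ) : Prop :=
  ∀ l : second H, θ ⟨l, second_le H l.2⟩ = θ 1 * (μ l : ℂ)

/-- Twisting by a linear character. -/
def tw (θ : commutator H → ℂ) (lam : commutator H →* ℂˣ) : commutator H → ℂ :=
  fun m => (lam m : ℂ) * θ m

theorem tw_tw (θ : commutator H → ℂ) (a b : commutator H →* ℂˣ) :
    tw (tw θ a) b = tw θ (a * b) := funext fun m => by
  simp only [tw, MonoidHom.mul_apply, Units.val_mul]
  ring

theorem hom_mul_inv (x : commutator H →* ℂˣ) : x * x⁻¹ = 1 :=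
  mul_inv_cancel (G := commutator H →* ℂˣ) x

theorem hom_cancel {A : Type*} [CommGroup A] (ax ay x y : A) (h : ax * x⁻¹ = ay * y⁻¹) :
    ax * ay⁻¹ = x * y⁻¹ := by
  calc ax * ay⁻¹ = ax * x⁻¹ * (x * ay⁻¹) := by group
    _ = ay * y⁻¹ * (ay⁻¹ * x) := by rw [h, mul_comm x ay⁻¹]
    _ = x * y⁻¹ := by rw [mul_mul_mul_comm, mul_inv_cancel, one_mul, mul_comm]

theorem tw_one (θ : commutator H → ℂ) : tw θ 1 = θ := funext fun m => by simp [tw]

theorem isIrr_tw {θ : commutator H → ℂ} (hθ : IsIrrCharacter (commutator H) θ)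
    (lam : commutator H →* ℂˣ) : IsIrrCharacter (commutator H) (tw θ lam) := by
  cases nonempty_fintype H
  haveI := Fintype.ofFinite (commutator H)
  exact CharInduce.isIrr_hom_mul hθ lam

theorem over_tw {μ : second H →* ℂˣ} {θ : commutator H → ℂ} (h : Over μ θ)
    (lam : commutator H →* ℂˣ) : Over μ (tw θ lam) := fun l => by
  simp only [tw]
  rw [hom_second lam l.2, map_one, h l]
  simp

theorem over_ne_one {μ : second H →* ℂˣ} (hμ : μ ≠ 1) {θ : commutator H → ℂ}
    (hθ : IsIrrCharacter (commutator H) θ) (h : Over μ θ) : charDegree θ ≠ 1 := by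
  intro h1
  obtain ⟨l, hl⟩ := H30.ThreeDegrees.exists_hom_of_linear (χ := ⟨θ, hθ⟩) h1
  refine hμ (MonoidHom.ext fun x => Units.ext ?_)
  have h2 := h x
  have h3 : θ ⟨x, second_le H x.2⟩ = (l ⟨x, second_le H x.2⟩ : ℂ) := hl _
  rw [h3, hom_second l x.2, show θ 1 = (l 1 : ℂ) from hl _, map_one] at h2
  rw [MonoidHom.one_apply]
  simpa using h2.symm

theorem exists_over {μ : second H →* ℂˣ} (hμ : μ ∈ Inv (H := H) (second H)) :
    ∃ θ, IsIrrCharacter (commutator H) θ ∧ Over μ θ := by
  classical
  cases nonempty_fintype H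
  haveI := Fintype.ofFinite (commutator H)
  let L' := (second H).subgroupOf (commutator H)
  haveI := Fintype.ofFinite L'
  let e := Subgroup.subgroupOfEquivOfLe (second_le H)
  have hirr := CharInduce.isIrrCharacter_hom (μ.comp e.toMonoidHom)
  obtain ⟨θ, hθ⟩ := H84.exists_irr_above (N := L') hirr
  have hinv : ∀ x : commutator H, CharInduce.conjFun L'
      (fun n => (μ.comp e.toMonoidHom n : ℂ)) x = fun n => (μ.comp e.toMonoidHom n : ℂ) := fun x => by
    rw [CharInduce.conjFun_eq_comp]
    funext n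
    refine congrArg Units.val (Eq.trans ?_ (hμ x x.2 (e n)))
    show μ _ = μ _
    congr 1
  have h := CharInduce.res_eq_smul_of_invariant L' θ.2 hirr hinv hθ
  refine ⟨θ, θ.2, fun l => ?_⟩
  have h1 := congrFun h 1
  have h2 := congrFun h (e.symm l)
  simp only [Pi.smul_apply, smul_eq_mul, OneMemClass.coe_one, map_one, Units.val_one, mul_one] at h1
  simp only [Pi.smul_apply, smul_eq_mul] at h2
  rw [← h1] at h2
  refine Eq.trans h2 ?_
  rw [MonoidHom.comp_apply, show e.toMonoidHom (e.symm l) = l from e.apply_symm_apply l]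

variable (d : Data H) (S : Split d)

/-- The action of the complement on functions on the derived group. -/
def actFun (b : S.B) (θ : commutator H → ℂ) : commutator H → ℂ :=
  fun m => θ (MulAut.conjNormal ((b : H)⁻¹) m)

theorem actFun_tw (b : S.B) (θ : commutator H → ℂ) (lam : commutator H →* ℂˣ) :
    actFun d S b (tw θ lam) = tw (actFun d S b θ) (act d S _ b lam) := rfl

theorem actFun_mul (b c : S.B) (θ : commutator H → ℂ) :
    actFun d S (b * c) θ = actFun d S b (actFun d S c θ) := funext fun m => by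
  show θ _ = θ _
  congr 1
  exact Subtype.ext (by simp [mul_assoc])

theorem actFun_one (θ : commutator H → ℂ) : actFun d S 1 θ = θ := funext fun m => by
  show θ _ = θ _
  congr 1
  exact Subtype.ext (by simp)

theorem conjFun_eq_actFun {θ : commutator H → ℂ} (hθ : IsIrrCharacter (commutator H) θ) (x : H) :
    CharInduce.conjFun (commutator H) θ x = actFun d S (S.pr x)⁻¹ θ := by
  cases nonempty_fintype H
  haveI := Fintype.ofFinite (commutator H)
  rw [CharInduce.conjFun_eq_comp]
  funext m
  show θ _ = θ _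
  have hcl := CharBasic.IsIrr.isClassFunction hθ
    (MulAut.conjNormal (((S.pr x)⁻¹ : S.B) : H)⁻¹ m) ⟨_, mul_inv_pr_mem d S x⟩
  refine Eq.trans ?_ hcl
  congr 1
  exact Subtype.ext (by simp [mul_assoc])

/-- Outside `D` some element fixes a nonlinear constituent. -/
theorem exists_fixer {μ : second H →* ℂˣ} (hμ1 : μ ≠ 1) {θ : commutator H → ℂ}
    (hθ : IsIrrCharacter (commutator H) θ) (hov : Over μ θ) (D : Subgroup S.B)
    (hD : D.index ∈ charDegrees H) (hD1 : 1 < D.index) :
    ∃ b : S.B, b ∉ D ∧ actFun d S b θ = θ := by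
  classical
  cases nonempty_fintype H
  haveI := Fintype.ofFinite (commutator H)
  let Sθ : Subgroup S.B :=
    { carrier := {b | actFun d S b θ = θ}
      one_mem' := actFun_one d S θ
      mul_mem' := fun {a c} (ha : actFun d S a θ = θ) (hc : actFun d S c θ = θ) => by
        show actFun d S (a * c) θ = θ
        rw [actFun_mul, hc, ha]
      inv_mem' := fun {a} (ha : actFun d S a θ = θ) => by
        show actFun d S a⁻¹ θ = θ
        conv_lhs => rw [← ha]
        rw [← actFun_mul, inv_mul_cancel, actFun_one] }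
  by_contra hno
  push Not at hno
  have hle : Sθ ≤ D := fun b hb => by
    by_contra hbD
    exact hno b hbD hb
  have hI : CharInduce.inertia (commutator H) θ = Sθ.comap S.pr := by
    ext x
    rw [CharInduce.mem_inertia, conjFun_eq_actFun d S hθ]
    exact inv_mem_iff (H := Sθ) (x := S.pr x)
  obtain ⟨χ, hχ⟩ := H84.exists_irr_above (N := commutator H) hθ
  have hdeg := CharInduce.clifford_degree (commutator H) χ.2 hθ hχ
  obtain ⟨e, he⟩ := CharBasic.classInner_isChar_nat
    (CharInduce.IsChar.res (CharBasic.IsIrr.isCharacter χ.2) (commutator H))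
    (CharBasic.IsIrr.isCharacter hθ)
  rw [he, H30.ThreeDegrees.apply_one χ, show θ 1 = ((charDegree θ : ℕ) : ℂ) from
    H30.ThreeDegrees.apply_one ⟨θ, hθ⟩, hI,
    Subgroup.index_comap_of_surjective _ (pr_surjective d S)] at hdeg
  have hn : charDegree (χ : H → ℂ) = e * Sθ.index * charDegree θ := by exact_mod_cast hdeg
  have heq := d.hnd.eq_of_dvd hD ⟨χ, rfl⟩ hD1
    (hn ▸ Dvd.dvd.mul_right (Dvd.dvd.mul_left (Subgroup.index_dvd_of_le hle) e) _)
  have h1 : 1 < charDegree θ := lt_of_le_of_ne (H30.ThreeDegrees.charDegree_pos ⟨θ, hθ⟩)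
    (Ne.symm (over_ne_one hμ1 hθ hov))
  have h2 : D.index ≤ Sθ.index :=
    Nat.le_of_dvd (Nat.pos_of_ne_zero Subgroup.index_ne_zero_of_finite) (Subgroup.index_dvd_of_le hle)
  have h3 : e ≠ 0 := fun h => by rw [hn, h, zero_mul, zero_mul] at heq; omega
  have h4 : Sθ.index ≤ e * Sθ.index := Nat.le_mul_of_pos_left _ (Nat.pos_of_ne_zero h3)
  have h5 : e * Sθ.index < e * Sθ.index * charDegree θ :=
    lt_mul_of_one_lt_right (by omega) h1
  omega

/-- Only elements of the second derived group pair trivially under a nontrivial invariant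
character. -/
theorem mem_second_of_pairing {μ : second H →* ℂˣ} (hμ : μ ∈ Inv (H := H) (second H))
    (hμ1 : μ ≠ 1) (D : Subgroup S.B) (hD : D.index ∈ charDegrees H) (hD1 : 1 < D.index)
    (hstab : ∀ lam : commutator H →* ℂˣ, lam ≠ 1 → stab d S _ lam = D) (v : commutator H)
    (hv : ∀ w : commutator H, μ ⟨⁅(v : H), (w : H)⁆,
      Subgroup.commutator_mem_commutator v.2 w.2⟩ = 1) : (v : H) ∈ second H := by
  classical
  cases nonempty_fintype H
  haveI := Fintype.ofFinite (commutator H)
  haveI : Finite (commutator H →* ℂˣ) := Finite.of_injective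
    (fun l : commutator H →* ℂˣ => (⟨_, CharInduce.isIrrCharacter_hom l⟩ : IrrCharacter _))
    fun a b h => MonoidHom.ext fun c => Units.ext (congrFun (congrArg Subtype.val h) c)
  obtain ⟨θ, hθ, hov⟩ := exists_over hμ
  let Lθ : Subgroup (commutator H →* ℂˣ) :=
    { carrier := {lam | tw θ lam = θ}
      one_mem' := tw_one θ
      mul_mem' := fun {a c} (ha : tw θ a = θ) (hc : tw θ c = θ) => by
        show tw θ (a * c) = θ
        rw [← tw_tw, ha, hc]
      inv_mem' := fun {a} (ha : tw θ a = θ) => by
        show tw θ a⁻¹ = θ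
        conv_lhs => rw [← ha]
        rw [tw_tw, hom_mul_inv, tw_one] }
  -- a fixer outside `D` acts without fixed points
  have hsurj : ∀ c : S.B, c ∉ D → actFun d S c θ = θ → ∀ lam,
      act d S _ c lam * lam⁻¹ ∈ Lθ → lam ∈ Lθ := by
    intro c hcD hcθ lam hlam
    have hmap : ∀ z : Lθ, act d S _ c (z : commutator H →* ℂˣ) * (z : commutator H →* ℂˣ)⁻¹ ∈ Lθ :=
      fun z => by
        refine Lθ.mul_mem ?_ (Lθ.inv_mem z.2)
        show tw θ _ = θ
        have h := congrArg (actFun d S c) (show tw θ (z : commutator H →* ℂˣ) = θ from z.2)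
        rw [actFun_tw, hcθ] at h
        exact h
    have hinj : ∀ x y : commutator H →* ℂˣ,
        act d S _ c x * x⁻¹ = act d S _ c y * y⁻¹ → x = y := by
      intro x y h
      by_contra hne
      have h1 : c ∈ stab d S _ (x * y⁻¹) := by
        rw [mem_stab, act_mul_hom, act_inv_hom]
        exact hom_cancel (A := commutator H →* ℂˣ) _ _ _ _ h
      rw [hstab _ fun h0 => hne (mul_inv_eq_one.1 h0)] at h1
      exact hcD h1
    let f : Lθ → Lθ := fun z => ⟨_, hmap z⟩
    have hf : Function.Injective f := fun x y h => Subtype.ext (hinj _ _ (congrArg Subtype.val h))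
    obtain ⟨z, hz⟩ := Finite.injective_iff_surjective.1 hf ⟨_, hlam⟩
    rw [← hinj _ _ (congrArg Subtype.val hz)]
    exact z.2
  obtain ⟨b, hbD, hbθ⟩ := exists_fixer d S hμ1 hθ hov D hD hD1
  have hall : ∀ lam : commutator H →* ℂˣ, tw θ lam = θ := by
    intro lam
    obtain ⟨b', hb'D, hb'θ⟩ := exists_fixer d S hμ1 (isIrr_tw hθ lam) (over_tw hov lam) D hD hD1
    rw [actFun_tw] at hb'θ
    set lam' := lam * (act d S _ b' lam)⁻¹ with hlam'
    have hθ' : actFun d S b' θ = tw θ lam' := by
      have h := congrArg (fun f => tw f (act d S _ b' lam)⁻¹) hb'θ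
      simp only [tw_tw, hom_mul_inv, tw_one] at h
      exact h
    have hbfix : actFun d S b (actFun d S b' θ) = actFun d S b' θ := by
      rw [← actFun_mul, S.hB, actFun_mul, hbθ]
    have h1 : act d S _ b lam' * lam'⁻¹ ∈ Lθ := by
      show tw θ _ = θ
      rw [hθ', actFun_tw, hbθ] at hbfix
      rw [← tw_tw, hbfix, tw_tw, hom_mul_inv, tw_one]
    have h2 : lam' ∈ Lθ := hsurj b hbD hbθ lam' h1
    have h3 : actFun d S b' θ = θ := hθ'.trans h2
    refine hsurj b' hb'D h3 lam ?_
    have h4 : lam' ∈ Lθ := h2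
    have h5 := Lθ.inv_mem h4
    have e : lam'⁻¹ = act d S _ b' lam * lam⁻¹ := by
      rw [hlam']
      exact (mul_inv_rev (G := commutator H →* ℂˣ) _ _).trans (by congr 1)
    rwa [e] at h5
  by_contra hvs
  have hvc : v ∉ commutator (commutator H) := fun h => hvs (by
    have h2 : (commutator (commutator H)).map (commutator H).subtype = second H := by
      rw [Subgroup.map_subtype_commutator]
    rw [← h2]
    exact ⟨v, h, rfl⟩)
  obtain ⟨lam, -, hlam⟩ := exists_hom_ne_one_off _ le_rfl hvc
  have h0 : θ v = 0 := by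
    have h := congrFun (hall lam) v
    simp only [tw] at h
    by_contra hne
    exact hlam (Units.ext (mul_right_cancel₀ hne (h.trans (one_mul _).symm)))
  obtain ⟨n, ρ, hρ, hρθ⟩ := hθ
  haveI := hρ
  have hcomm : ∀ w, ρ v * ρ w = ρ w * ρ v := by
    intro w
    have hker : ρ ⁅v, w⁆ = 1 := by
      refine (CharBasic.character_eq_finrank_iff ρ _).1 ?_
      rw [← ρ.char_one, hρθ]
      have h := hov ⟨⁅(v : H), (w : H)⁆, Subgroup.commutator_mem_commutator v.2 w.2⟩
      rw [hv w, Units.val_one, mul_one] at h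
      refine Eq.trans ?_ h
      congr 1
    rw [← map_mul, ← map_mul, show v * w = ⁅v, w⁆ * (w * v) by rw [commutatorElement_def]; group,
      map_mul, hker, one_mul]
  obtain ⟨c, hc⟩ := CharBasic.schur_scalar ρ (ρ v) hcomm
  have hunit : ρ v * ρ v⁻¹ = 1 := by rw [← map_mul, mul_inv_cancel, map_one]
  have hθ1 : θ 1 ≠ 0 := CharBasic.IsIrr.one_ne_zero ⟨n, ρ, hρ, hρθ⟩
  have hc0 : c ≠ 0 := by
    intro h
    rw [hc, h, zero_smul, zero_mul] at hunit
    apply hθ1
    rw [← hρθ, Representation.character, map_one, ← hunit, map_zero]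
  apply mul_ne_zero hc0 hθ1
  rw [← h0, ← hρθ, Representation.character, Representation.character, hc, map_one, map_smul,
    smul_eq_mul]
  rfl

end Cfsg.Agent.H84.TwoComp
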